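import Cfsg.Agent.Lib.MonsterType.Fischer.Data
import Mathlib

/-!
Classes as numbers below `4096`, with checks of the three orbits.
-/

set_option autoImplicit false

namespace Cfsg.Agent.Lib.MonsterType.Fischer.Bits

/-- The vector with given bits. -/
def ofBits (n : ℕ) : Fin 12 → ZMod 2 := fun k => if n.testBit k.val then 1 else 0

theorem ofBits_zero : ofBits 0 = 0 := funext fun k => by simp [ofBits]

theorem ofBits_xor (a b : ℕ) : ofBits (a ^^^ b) = ofBits a + ofBits b := by
  funext k
  simp only [ofBits, Nat.testBit_xor, Pi.add_apply]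
  cases a.testBit k.val <;> cases b.testBit k.val <;> decide

/-- The sum of the members selected by the bits of `n`. -/
def selVec : List (Fin 12 → ZMod 2) → ℕ → (Fin 12 → ZMod 2)
  | [], _ => 0
  | v :: vs, n => (if n % 2 = 1 then v else 0) + selVec vs (n / 2)

/-- The xor of the members selected by the bits of `n`. -/
def selXor : List ℕ → ℕ → ℕ
  | [], _ => 0
  | v :: vs, n => (if n % 2 = 1 then v else 0) ^^^ selXor vs (n / 2)

theorem ofBits_selXor (l : List ℕ) (n : ℕ) : ofBits (selXor l n) = selVec (l.map ofBits) n := by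
  induction l generalizing n with
  | nil => exact ofBits_zero
  | cons v l ih =>
    rw [selXor, List.map_cons, selVec, ofBits_xor, ih]
    congr 1
    split
    · rfl
    · exact ofBits_zero

theorem map_selVec (f : (Fin 12 → ZMod 2) →+ (Fin 12 → ZMod 2)) (l : List (Fin 12 → ZMod 2)) (n : ℕ) :
    f (selVec l n) = selVec (l.map f) n := by
  induction l generalizing n with
  | nil => exact map_zero f
  | cons v l ih =>
    rw [selVec, List.map_cons, selVec, map_add, ih]
    congr 1
    split
    · rfl
    · exact map_zero f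

theorem ofBits_two_pow (k : Fin 12) : ofBits (2 ^ k.val) = Pi.single k 1 := by
  revert k
  decide +kernel

/-- The unit codes. -/
def units : List ℕ := (List.finRange 12).map fun k : Fin 12 => 2 ^ k.val

theorem testBit_selXor_pow (m : ℕ) : ∀ (a n j : ℕ),
    (selXor ((List.range m).map fun k => 2 ^ (a + k)) n).testBit j =
      (decide (a ≤ j ∧ j < a + m) && n.testBit (j - a)) := by
  induction m with
  | zero =>
    intro a n j
    rw [List.range_zero, List.map_nil, selXor, Nat.zero_testBit]
    symm
    rw [Bool.and_eq_false_iff, decide_eq_false_iff_not]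
    omega
  | succ m ih =>
    intro a n j
    rw [List.range_succ_eq_map, List.map_cons, List.map_map, selXor, Nat.testBit_xor,
      show ((fun k => 2 ^ (a + k)) ∘ Nat.succ) = fun k => 2 ^ (a + 1 + k) from
        funext fun k => by simp only [Function.comp_apply, Nat.succ_eq_add_one]; ring_nf,
      ih]
    rcases Nat.lt_trichotomy j a with e | e | e
    · rw [decide_eq_false (show ¬(a + 1 ≤ j ∧ j < a + 1 + m) by omega),
        decide_eq_false (show ¬(a ≤ j ∧ j < a + (m + 1)) by omega)]
      split <;> simp [Nat.testBit_two_pow, show a ≠ j by omega]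
    · subst e
      rw [decide_eq_false (show ¬(j + 1 ≤ j ∧ j < j + 1 + m) by omega),
        decide_eq_true (show j ≤ j ∧ j < j + (m + 1) by omega), Nat.sub_self]
      rcases Nat.mod_two_eq_zero_or_one n with r | r <;> simp [r, Nat.testBit_zero]
    · have hd : n.testBit (j - a) = (n / 2).testBit (j - (a + 1)) := by
        rw [show j - a = (j - (a + 1)) + 1 by omega, Nat.testBit_succ]
      rw [hd, show decide (a + 1 ≤ j ∧ j < a + 1 + m) = decide (a ≤ j ∧ j < a + (m + 1)) from
        decide_eq_decide.2 (by omega)]
      split <;> simp [Nat.testBit_two_pow, show a ≠ j by omega]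

theorem selXor_units (n : ℕ) (k : Fin 12) : (selXor units n).testBit k.val = n.testBit k.val := by
  rw [show units = (List.range 12).map fun i => 2 ^ (0 + i) by decide +kernel, testBit_selXor_pow]
  simp [k.isLt]

theorem selVec_units (n : ℕ) :
    selVec ((List.finRange 12).map fun k : Fin 12 => Pi.single k 1) n = ofBits n := by
  rw [show ((List.finRange 12).map fun k : Fin 12 => (Pi.single k 1 : Fin 12 → ZMod 2)) =
    units.map ofBits by
      rw [units, List.map_map]
      exact List.map_congr_left fun k _ => (ofBits_two_pow k).symm,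
    ← ofBits_selXor]
  funext k
  simp only [ofBits, selXor_units]

/-- An additive map in bits, from the codes of the images of the units. -/
theorem map_ofBits (f : (Fin 12 → ZMod 2) →+ (Fin 12 → ZMod 2)) (l : List ℕ)
    (hl : l.map ofBits = (List.finRange 12).map fun k : Fin 12 => f (Pi.single k 1)) (n : ℕ) :
    f (ofBits n) = ofBits (selXor l n) := by
  rw [← selVec_units, map_selVec, ofBits_selXor, hl, List.map_map]
  rfl

/-- The number of a class. -/
def code (s : Fin 12 → ZMod 2) : ℕ :=
  selXor ((List.finRange 12).map fun k : Fin 12 => if s k = 1 then 2 ^ k.val else 0) 4095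

theorem ofBits_code (s : Fin 12 → ZMod 2) : ofBits (code s) = s := by
  rw [code, ofBits_selXor, List.map_map]
  have e : ∀ a : Fin 12 → ZMod 2, ∀ k : Fin 12,
      ofBits (if a k = 1 then 2 ^ k.val else 0) = Pi.single k (a k) := by
    intro a k
    rcases (by decide : ∀ x : ZMod 2, x = 0 ∨ x = 1) (a k) with r | r
    · rw [r, if_neg (by decide), ofBits_zero, Pi.single_zero]
    · rw [r, if_pos rfl, ofBits_two_pow]
  rw [show ((ofBits ∘ fun k : Fin 12 => if s k = 1 then 2 ^ k.val else 0)) =
    fun k : Fin 12 => Pi.single k (s k) from funext (e s)]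
  funext j
  simp only [List.finRange_succ, List.finRange_zero, List.map_cons, List.map_nil, selVec, Pi.add_apply,
    Pi.zero_apply]
  fin_cases j <;> simp

theorem code_lt (s : Fin 12 → ZMod 2) : code s < 4096 := by
  have key : ∀ (l : List ℕ), (∀ v ∈ l, v < 2 ^ 12) → ∀ n, selXor l n < 2 ^ 12 := by
    intro l
    induction l with
    | nil => intro _ n; simp [selXor]
    | cons v l ih =>
      intro h n
      rw [selXor]
      refine Nat.xor_lt_two_pow ?_ (ih (fun w hw => h w (List.mem_cons_of_mem _ hw)) _)
      split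
      · exact h v List.mem_cons_self
      · norm_num
  refine key _ (fun v hv => ?_) _
  obtain ⟨k, -, rfl⟩ := List.mem_map.1 hv
  split
  · exact Nat.pow_lt_pow_right (by norm_num) k.isLt
  · norm_num

theorem ofBits_inj {a b : ℕ} (ha : a < 4096) (hb : b < 4096) (e : ofBits a = ofBits b) : a = b := by
  refine Nat.eq_of_testBit_eq fun i => ?_
  by_cases hi : i < 12
  · have := congrFun e ⟨i, hi⟩
    simp only [ofBits] at this
    revert this
    cases a.testBit i <;> cases b.testBit i <;> decide
  · have h12 : (4096 : ℕ) ≤ 2 ^ i := by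
      rw [show (4096 : ℕ) = 2 ^ 12 by norm_num]
      exact Nat.pow_le_pow_right (by norm_num) (by omega)
    rw [Nat.testBit_lt_two_pow (ha.trans_le h12), Nat.testBit_lt_two_pow (hb.trans_le h12)]

/-- The set of codes in a tree, as bits. -/
def mask : List (ℕ × ℕ × ℕ) → ℕ
  | [] => 0
  | e :: T => (2 ^ e.1) ||| mask T

theorem testBit_mask {T : List (ℕ × ℕ × ℕ)} {n : ℕ} :
    (mask T).testBit n = true ↔ ∃ i < T.length, (T.getD i (0, 0, 0)).1 = n := by
  induction T with
  | nil => simp [mask]
  | cons e T ih =>
    rw [mask, Nat.testBit_or, Bool.or_eq_true, ih, Nat.testBit_two_pow, decide_eq_true_iff]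
    constructor
    · rintro (r | ⟨i, hi, r⟩)
      · exact ⟨0, by simp, by simpa using r⟩
      · exact ⟨i + 1, by simpa using hi, by simpa using r⟩
    · rintro ⟨i, hi, r⟩
      cases i with
      | zero => left; simpa using r
      | succ i => exact Or.inr ⟨i, by simpa using hi, by simpa using r⟩

theorem cover : mask Data.tree0 ||| (mask Data.tree1 ||| mask Data.tree2) = 2 ^ 4096 - 2 := by
  decide +kernel

theorem count_tree1 : ((List.range 4096).filter fun n => (mask Data.tree1).testBit n).length = 1701 := by
  decide +kernel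

/-- The rows of the generators in codes. -/
def genCodes : List (List ℕ) :=
  [[345, 2821, 4, 2831, 3254, 1497, 1249, 3710, 512, 256, 3679, 607], [1840, 4047, 2082, 965, 2441, 2509, 637, 604, 132, 3806, 1756, 1650]]

/-- The test of a tree, given the classes seen so far. -/
def treeGo : List (ℕ × ℕ × ℕ) → ℕ → Bool
  | [], _ => true
  | e :: T, seen => decide (e.2.1 < 2) && seen.testBit e.2.2 &&
      (e.1 == selXor (genCodes.getD e.2.1 []) e.2.2) && treeGo T (seen ||| 2 ^ e.1)

/-- The test of one tree. -/
def treeOk : List (ℕ × ℕ × ℕ) → Bool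
  | [] => false
  | e :: T => treeGo T (2 ^ e.1)

theorem treeGo_reach {R : ℕ → Prop} (hR : ∀ g < 2, ∀ n, R n → R (selXor (genCodes.getD g []) n)) :
    ∀ (T : List (ℕ × ℕ × ℕ)) (seen : ℕ), treeGo T seen = true →
      (∀ n, seen.testBit n = true → R n) → ∀ n, (seen ||| mask T).testBit n = true → R n := by
  intro T
  induction T with
  | nil => intro seen _ hs n hn; exact hs n (by simpa [mask] using hn)
  | cons e T ih =>
    intro seen h hs n hn
    simp only [treeGo, Bool.and_eq_true, decide_eq_true_eq, beq_iff_eq] at h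
    obtain ⟨⟨⟨h1, h2⟩, h3⟩, h4⟩ := h
    refine ih _ h4 (fun m hm => ?_) n ?_
    · rw [Nat.testBit_or, Bool.or_eq_true, Nat.testBit_two_pow, decide_eq_true_iff] at hm
      rcases hm with r | r
      · exact hs m r
      · rw [← r, h3]; exact hR _ h1 _ (hs _ h2)
    · rwa [Nat.lor_assoc]

theorem treeOk_reach {R : ℕ → Prop} (hR : ∀ g < 2, ∀ n, R n → R (selXor (genCodes.getD g []) n))
    {T : List (ℕ × ℕ × ℕ)} (h : treeOk T = true) (h0 : R (T.getD 0 (0, 0, 0)).1) :
    ∀ i < T.length, R (T.getD i (0, 0, 0)).1 := by
  intro i hi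
  cases T with
  | nil => simp at hi
  | cons e T =>
    refine treeGo_reach hR T _ h (fun n hn => ?_) _ (testBit_mask.2 ⟨i, hi, rfl⟩)
    rw [Nat.testBit_two_pow, decide_eq_true_iff] at hn
    rw [← hn]; exact h0

theorem tree0_ok : treeOk Data.tree0 = true := by decide +kernel

theorem tree1_ok : treeOk Data.tree1 = true := by decide +kernel

theorem tree2_ok : treeOk Data.tree2 = true := by decide +kernel

theorem tree_sizes : Data.tree0.length = 378 ∧ Data.tree1.length = 1701 ∧ Data.tree2.length = 2016 ∧
    (Data.tree0.getD 0 (0, 0, 0)).1 = 1 ∧ (Data.tree1.getD 0 (0, 0, 0)).1 = 3222 ∧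
    (Data.tree2.getD 0 (0, 0, 0)).1 = 3072 := by
  decide +kernel

end Cfsg.Agent.Lib.MonsterType.Fischer.Bits
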