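import Cfsg.Agent.Lib.MonsterType.Fischer.Gens

/-!
Six coordinates modulo three on the fixed lattice, with the form induced by the inner product.
-/

set_option autoImplicit false

namespace Cfsg.Agent.Lib.MonsterType.Fischer

open Cfsg
open Cfsg.Agent.Lib
open Cfsg.Agent.Lib.Leech

/-- The index set of the orthogonal space. -/
abbrev I6 : Type := (Fin 2 ⊕ Fin 2) ⊕ Fin 2

/-- The number of a coordinate. -/
def aIdx : I6 → ℕ
  | .inl (.inl i) => i.val
  | .inl (.inr i) => 2 + i.val
  | .inr i => 4 + i.val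

/-- The vectors giving the coordinates. -/
def wvec (a : I6) : Fin 12 → ℤ := vals (Data.wv.getD (aIdx a) [])

/-- Vectors with unit coordinates. -/
def evec (a : I6) : Fin 12 → ℤ := vals (Data.ev.getD (aIdx a) [])

/-- The coordinates of the basis. -/
def coT (a : I6) : Fin 12 → ℤ := vals
  ([[1, 0, 1, 1, 0, 1, 0, 2, 0, 1, 2, 0],
    [2, 2, 0, 2, 1, 1, 2, 2, 0, 0, 0, 0],
    [1, 1, 1, 0, 2, 1, 2, 0, 0, 1, 2, 2],
    [2, 2, 2, 2, 0, 0, 0, 0, 2, 0, 2, 1],
    [0, 0, 0, 0, 1, 0, 2, 2, 2, 1, 0, 1],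
    [0, 1, 1, 1, 1, 1, 1, 2, 2, 0, 2, 1]].getD (aIdx a) [])

/-- The bilinear form of `x₀x₂ + x₁x₃ + x₄² + x₅²`. -/
def pol (x y : I6 → ZMod 3) : ZMod 3 :=
  x (.inl (.inl 0)) * y (.inl (.inr 0)) + x (.inl (.inr 0)) * y (.inl (.inl 0)) +
    (x (.inl (.inl 1)) * y (.inl (.inr 1)) + x (.inl (.inr 1)) * y (.inl (.inl 1))) +
    (2 * (x (.inr 0) * y (.inr 0)) + 2 * (x (.inr 1) * y (.inr 1)))

theorem pol_comm (x y : I6 → ZMod 3) : pol x y = pol y x := by simp only [pol]; ring

theorem pol_sum {α : Type*} (s : Finset α) (c : α → ZMod 3) (X : α → I6 → ZMod 3) (y : I6 → ZMod 3) :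
    pol (fun a => ∑ k ∈ s, c k * X k a) y = ∑ k ∈ s, c k * pol (X k) y := by
  simp only [pol, Finset.sum_mul, Finset.mul_sum, ← Finset.sum_add_distrib]
  exact Finset.sum_congr rfl fun k _ => by ring

theorem coord_checks :
    (∀ a k, ((∑ l, wvec a l * gram k l : ℤ) : ZMod 3) = (coT a k : ZMod 3)) ∧
    (∀ a b, ((∑ k, evec a k * coT b k : ℤ) : ZMod 3) = if a = b then 1 else 0) ∧
    (∀ i j, ((gram i j : ℤ) : ZMod 3) =
      pol (fun a => (coT a i : ZMod 3)) (fun a => (coT a j : ZMod 3))) ∧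
    (∀ a k, ((∑ j, aOm k j * coT a j : ℤ) : ZMod 3) = (coT a k : ZMod 3)) := by
  refine ⟨?_, ?_, ?_, ?_⟩ <;> decide +kernel

/-- A coordinate vector in the lattice. -/
def wL (a : I6) : leechLattice := comb (wvec a)

/-- A vector with unit coordinates in the lattice. -/
def eL (a : I6) : leechLattice := comb (evec a)

/-- The coordinates modulo three. -/
def co (v : leechLattice) : I6 → ZMod 3 := fun a => ((ip v (wL a) : ℤ) : ZMod 3)

theorem co_comb_apply (n : Fin 12 → ℤ) (a : I6) :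
    co (comb n) a = ∑ k, (n k : ZMod 3) * (coT a k : ZMod 3) := by
  rw [co, ip_comb_left, Int.cast_sum]
  refine Finset.sum_congr rfl fun k _ => ?_
  rw [Int.cast_mul, ← coord_checks.1 a k, wL, ip_comm, ip_comb_left]
  congr 2
  exact Finset.sum_congr rfl fun l _ => by rw [ip_comm, ip_bL]

theorem co_comb (n : Fin 12 → ℤ) :
    co (comb n) = fun a => ∑ k, (n k : ZMod 3) * (coT a k : ZMod 3) :=
  funext (co_comb_apply n)

theorem co_bL (k : Fin 12) : co (bL k) = fun a => (coT a k : ZMod 3) := by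
  funext a
  rw [← comb_single, co_comb_apply, Finset.sum_eq_single k]
  · simp
  · intro j _ hj; simp [hj]
  · simp

theorem co_eL (a : I6) : co (eL a) = Pi.single a 1 := by
  funext b
  rw [eL, co_comb_apply]
  have h := coord_checks.2.1 a b
  push_cast at h
  rw [h, Pi.single_apply]
  by_cases e : a = b
  · rw [if_pos e, if_pos e.symm]
  · rw [if_neg e, if_neg (Ne.symm e)]

theorem co_fixed {v : leechLattice} (hv : k0 • v = v) :
    co v = fun a => ∑ k, (nvec v k : ZMod 3) * co (bL k) a := by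
  conv_lhs => rw [eq_comb hv, co_comb]
  funext a
  exact Finset.sum_congr rfl fun k _ => by rw [co_bL]

/-- The inner product modulo three is the form on the coordinates. -/
theorem ip_mod_three {v u : leechLattice} (hv : k0 • v = v) (hu : k0 • u = u) :
    ((ip v u : ℤ) : ZMod 3) = pol (co v) (co u) := by
  conv_lhs => rw [eq_comb hv, ip_comb_left, Int.cast_sum]
  rw [co_fixed hv, pol_sum]
  refine Finset.sum_congr rfl fun k _ => ?_
  rw [Int.cast_mul]
  congr 1
  rw [ip_comm]
  conv_lhs => rw [eq_comb hu, ip_comb_left, Int.cast_sum]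
  rw [co_fixed hu, pol_comm, pol_sum]
  refine Finset.sum_congr rfl fun j _ => ?_
  rw [Int.cast_mul, ip_bL, coord_checks.2.2.1, co_bL, co_bL]

/-- Linearity of the coordinates along the action. -/
theorem co_smul_fixed {c : cen} (h : ∀ k, co ((c : Co0) • bL k) = co (bL k)) {v : leechLattice}
    (hv : k0 • v = v) : co ((c : Co0) • v) = co v := by
  funext a
  have e : ∀ n : Fin 12 → ℤ, co ((c : Co0) • comb n) a = ∑ k, (n k : ZMod 3) * co ((c : Co0) • bL k) a := by
    intro n
    simp only [co, comb, smul_sum', smul_zsmul']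
    show ((ipHom (wL a) (∑ k, n k • ((c : Co0) • bL k)) : ℤ) : ZMod 3) = _
    rw [map_sum, Int.cast_sum]
    refine Finset.sum_congr rfl fun k _ => ?_
    rw [map_zsmul, smul_eq_mul, Int.cast_mul]
    rfl
  conv_lhs => rw [eq_comb hv, e]
  conv_rhs => rw [co_fixed hv]
  exact Finset.sum_congr rfl fun k _ => by rw [h k]

theorem co_gOm_bL (k : Fin 12) : co ((gOm : Co0) • bL k) = co (bL k) := by
  rw [actsBy_gOm k, co_comb, co_bL]
  funext a
  have h := coord_checks.2.2.2 a k
  push_cast at h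
  exact h

end Cfsg.Agent.Lib.MonsterType.Fischer
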