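import Cfsg.Agent.Lib.MonsterType.Fischer.Orbit

/-!
The stabiliser of the class of a cross is monomial; the centraliser has order `1701 * 69120`.
-/

set_option autoImplicit false

namespace Cfsg.Agent.Lib.MonsterType.Fischer

open Cfsg
open Cfsg.Agent.Lib
open Cfsg.Agent.Lib.Leech

/-- An invariant word from its values on the six fixed points. -/
def extU (a : Fin 6 → ZMod 2) : Fin 12 → ZMod 2 :=
  let t : ZMod 2 := ∑ j, a j
  ![a 0, a 1, a 2, a 3, a 4, a 5, t - a 0, t - a 3, t - a 1, t - a 4, t - a 5, t - a 2]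

/-- A word constant on the orbits. -/
def spread (u : Fin 12 → ZMod 2) : GolayPt → ZMod 2 := fun x => u (orb x)

/-- Orthogonality to the code. -/
def wordTest (u : Fin 12 → ZMod 2) : Bool := decide (∀ t, (∑ i, qrWord t i * spread u i) = 0)

theorem extU_code : ∀ a : Fin 6 → ZMod 2, codeChk (spread (extU a)) = true := by
  decide +kernel

theorem kernel_test : ∀ b : Fin 6 → ZMod 2,
    wordTest ![0, 0, 0, 0, 0, 0, b 0, b 1, b 2, b 3, b 4, b 5] = true → b = 0 := by
  decide +kernel

theorem orb_lift : ∀ o, ∃ x, orb x = o := by decide +kernel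

theorem spread_injective : Function.Injective spread := by
  intro u v e
  funext o
  obtain ⟨x, rfl⟩ := orb_lift o
  exact congrFun e x

theorem eq_extU {u : Fin 12 → ZMod 2} (hu : spread u ∈ golayCode) :
    u = extU fun k : Fin 6 => u ⟨k.val, by omega⟩ := by
  set a : Fin 6 → ZMod 2 := fun k => u ⟨k.val, by omega⟩
  have hd : spread (u - extU a) ∈ golayCode := by
    rw [show spread (u - extU a) = spread u - spread (extU a) from rfl]
    exact sub_mem hu (codeChk_iff (extU_code a))
  have hb := kernel_test (fun k : Fin 6 => (u - extU a) ⟨k.val + 6, by omega⟩) (by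
    rw [wordTest, decide_eq_true_iff]
    intro t
    refine Eq.trans (Finset.sum_congr rfl fun i _ => ?_)
      (code_dot (Submodule.subset_span (Set.mem_union_left _ ⟨t, rfl⟩)) hd)
    congr 1
    simp only [spread]
    generalize orb i = o
    fin_cases o <;> simp [extU, a] <;> rfl)
  funext o
  refine sub_eq_zero.1 ?_
  fin_cases o
  all_goals first
    | exact congrFun hb 0 | exact congrFun hb 1 | exact congrFun hb 2 | exact congrFun hb 3
    | exact congrFun hb 4 | exact congrFun hb 5 | simp [extU, a] | (simp [extU, a]; rfl)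

/-- The invariant code words. -/
noncomputable def extW (a : Fin 6 → ZMod 2) : {u : Fin 12 → ZMod 2 // spread u ∈ golayCode} :=
  ⟨extU a, codeChk_iff (extU_code a)⟩

theorem card_words : Nat.card {u : Fin 12 → ZMod 2 // spread u ∈ golayCode} = 64 := by
  rw [← Nat.card_eq_of_bijective extW ⟨?_, ?_⟩]
  · simp
  · intro a b e
    have h := congrArg Subtype.val e
    funext k
    have := congrFun h ⟨k.val, by omega⟩
    fin_cases k <;> exact this
  · rintro ⟨u, hu⟩
    exact ⟨fun k => u ⟨k.val, by omega⟩, Subtype.ext (eq_extU hu).symm⟩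

/-- The action on classes. -/
noncomputable instance actInst : MulAction cen (Fin 12 → ZMod 2) where
  smul := act
  one_smul := act_one
  mul_smul := act_mul

theorem smul_eq_act (c : cen) (s : Fin 12 → ZMod 2) : c • s = act c s := rfl

theorem k0_monoCo_comm {τ : Equiv.Perm GolayPt} (hτ : τ ∈ M24) {w : GolayPt → ZMod 2}
    (hw : w ∈ golayCode) (h1 : τ * sigma = sigma * τ) (h2 : ∀ x, w (sigma x) = w x) :
    monoCo τ hτ w hw * k0 = k0 * monoCo τ hτ w hw := by
  rw [k0, monoCo_mul, monoCo_mul]
  refine co0_ext_pt8 fun i => ?_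
  rw [monoCo_smul_pt8, monoCo_smul_pt8, h1]
  have e := h2 (τ i)
  simp [Equiv.Perm.mul_apply, e]

theorem inv_of_orb {u : Fin 12 → ZMod 2} (x : GolayPt) : spread u (sigma x) = spread u x := by
  rw [spread, sigma_apply, perm_checks.2.1]; rfl

/-- The monomial elements fixing the class. -/
noncomputable def monoStab
    (p : Golay.Classes.centM24 sl × {u : Fin 12 → ZMod 2 // spread u ∈ golayCode}) :
    MulAction.stabilizer cen s1 :=
  ⟨⟨monoCo p.1.1 (Golay.Classes.mem_centM24.1 p.1.2).1 (spread p.2.1) p.2.2, mem_cen_iff.2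
      (k0_monoCo_comm _ _ (Golay.Classes.mem_centM24.1 p.1.2).2 inv_of_orb)⟩, by
    rw [MulAction.mem_stabilizer_iff, smul_eq_act, s1, act_cls _ cong_k0_pt8]
    exact cls_cong (monoCo_mem_crossStab p.1.1 (Golay.Classes.mem_centM24.1 p.1.2).1 (spread p.2.1) p.2.2)⟩

theorem monoStab_bijective : Function.Bijective monoStab := by
  constructor
  · rintro ⟨⟨τ, hτ⟩, ⟨u, hu⟩⟩ ⟨⟨τ', hτ'⟩, ⟨u', hu'⟩⟩ e
    have e' : monoCo τ (Golay.Classes.mem_centM24.1 hτ).1 (spread u) hu =
        monoCo τ' (Golay.Classes.mem_centM24.1 hτ').1 (spread u') hu' :=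
      congrArg (fun c : MulAction.stabilizer cen s1 => ((c : cen) : Co0)) e
    obtain ⟨h1, h2⟩ := monoCo_injective e'
    obtain rfl : τ = τ' := h1
    obtain rfl : u = u' := spread_injective h2
    rfl
  · rintro ⟨⟨c, hc⟩, hs⟩
    rw [MulAction.mem_stabilizer_iff, smul_eq_act, s1, act_cls _ cong_k0_pt8] at hs
    have hk : Cong (k0 • (c • pt8 none)) (c • pt8 none) := by
      rw [← mul_smul, ← mem_cen_iff.1 hc, mul_smul]
      exact cong_k0_pt8.smul _
    obtain ⟨τ, hτ, w, hw, rfl⟩ := exists_mono_of_mem_crossStab (g := c) (cong_of_cls hk cong_k0_pt8 hs)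
    have hrel := mem_cen_iff.1 hc
    rw [k0, monoCo_mul, monoCo_mul] at hrel
    obtain ⟨h1, h2⟩ := monoCo_injective hrel
    have hinv : ∀ x, w (sigma x) = w x := fun x => by
      have := congrFun h2 (sigma x)
      simpa using this
    have horb : ∀ x y, orb x = orb y → w x = w y := by
      intro x y e
      have st : ∀ x, w (sF x) = w x := fun x => by rw [← sigma_apply]; exact hinv x
      rcases perm_checks.2.2.2.2 x y e with r | r | r <;> rw [← r]
      · rw [st]
      · rw [st, st]
    choose p hp using orb_lift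
    let u : Fin 12 → ZMod 2 := fun o => w (p o)
    have hu : spread u = w := funext fun x => horb _ _ (hp (orb x))
    refine ⟨(⟨τ, Golay.Classes.mem_centM24.2 ⟨hτ, h1⟩⟩, ⟨u, hu.symm ▸ hw⟩), Subtype.ext (Subtype.ext ?_)⟩
    show monoCo τ hτ (spread u) (hu.symm ▸ hw) = monoCo τ hτ w hw
    congr 1

theorem card_stab : Nat.card (MulAction.stabilizer cen s1) = 69120 := by
  rw [← Nat.card_eq_of_bijective _ monoStab_bijective, Nat.card_prod, card_words,
    show sl = Golay.ClassData.rep3f6 from rfl, Golay.Classes.card_centM24 Golay.Classes.cent3f6_ok,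
    show Golay.ClassData.wit3f6.length * Golay.ClassData.cent3f6.length = 1080 by decide +kernel]

theorem card_cen : Nat.card cen = 117573120 := by
  rw [← (MulAction.stabilizer cen s1).index_mul_card, card_stab, MulAction.index_stabilizer]
  have e : MulAction.orbit cen s1 = omega := by
    refine Set.Subset.antisymm ?_ fun s hs => ?_
    · rintro _ ⟨c, rfl⟩; exact act_s1_mem c
    · obtain ⟨c, rfl⟩ := reach_omega hs; exact ⟨c, rfl⟩
  rw [e, ← Nat.card_coe_set_eq, card_omega]

end Cfsg.Agent.Lib.MonsterType.Fischer
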