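import Cfsg.Agent.Lib.MonsterType.OddType.Gens
import Cfsg.Agent.Lib.MonsterType.Fischer.Data
import Cfsg.Agent.Lib.Golay.ClassCount

/-!
The fixed lattice of an element of cycle type `1^6 3^6`, in a basis with a dual family, and its classes
modulo two.
-/

set_option autoImplicit false

namespace Cfsg.Agent.Lib.MonsterType.Fischer

open Cfsg
open Cfsg.Agent.Lib
open Cfsg.Agent.Lib.Leech

/-- The image list. -/
def sl : List ℕ := Golay.ClassData.rep3f6

/-- The orbit of a point. -/
def orb (x : GolayPt) : Fin 12 := Fin.ofNat 12 (Data.orbT.getD (Golay.idx x).val 0)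

/-- The permutation, computably. -/
def sF : GolayPt → GolayPt := Golay.listFun sl

/-- Values listed on twelve places. -/
def vals (l : List ℤ) : Fin 12 → ℤ := fun k => l.getD k.val 0

/-- A basis vector. -/
def bv (k : Fin 12) : GolayPt → ℤ := fun x => vals (Data.bas.getD k.val []) (orb x)

/-- A dual vector. -/
def gv (k : Fin 12) : GolayPt → ℤ := fun x => (Data.dual.getD k.val []).getD (Golay.idx x).val 0

/-- The indicator of an orbit. -/
def ind (o : Fin 12) : GolayPt → ℤ := fun x => if orb x = o then 1 else 0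

/-- The inner products of the basis. -/
def gram (i j : Fin 12) : ℤ := (Data.gram.getD i.val []).getD j.val 0

theorem perm_checks : Golay.inM24 sl = true ∧ (∀ x, orb (sF x) = orb x) ∧
    (∀ x, sF (sF (sF x)) = x) ∧ (∃ x, sF x ≠ x) ∧
    ∀ x y, orb x = orb y → sF x = y ∨ sF (sF x) = y ∨ x = y := by
  refine ⟨?_, ?_, ?_, ?_, ?_⟩ <;> decide +kernel

set_option maxHeartbeats 1000000 in
theorem basis_checks : (∀ k, leechChk (bv k) = true ∧ leechChk (gv k) = true) ∧
    (∀ j k, dotInt (bv j) (gv k) = if j = k then 8 else 0) ∧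
    (∀ o x, 8 * ind o x = ∑ k, dotInt (ind o) (gv k) * bv k x) ∧
    (∀ i j, dotInt (bv i) (bv j) = 8 * gram i j) := by
  refine ⟨?_, ?_, ?_, ?_⟩ <;> decide +kernel

/-- The permutation. -/
noncomputable def sigma : Equiv.Perm GolayPt := Golay.toPerm sl

theorem sigma_apply (x : GolayPt) : sigma x = sF x :=
  Golay.toPerm_apply (Golay.inM24.valid perm_checks.1) x

theorem sigma_mem : sigma ∈ M24 := Golay.toPerm_mem_M24 perm_checks.1

theorem sigma_pow_three : sigma ^ 3 = 1 :=
  Equiv.ext fun x => by
    simp only [pow_succ, pow_zero, one_mul, Equiv.Perm.mul_apply, sigma_apply, Equiv.Perm.one_apply]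
    exact perm_checks.2.2.1 x

/-- The automorphism. -/
noncomputable def k0 : Co0 := monoCo sigma sigma_mem 0 (zero_mem _)

theorem k0_smul (v : leechLattice) (x : GolayPt) :
    ((k0 • v : leechLattice) : GolayPt → ℤ) (sigma x) = (v : GolayPt → ℤ) x := by
  rw [k0, monoCo_smul]
  simp [signedPerm, support₂]

theorem k0_pow_three : k0 ^ 3 = 1 := by
  refine co0_ext_pt8 fun i => ?_
  rw [one_smul, pow_succ, pow_succ, pow_one, k0, monoCo_mul, monoCo_mul, monoCo_smul_pt8]
  rw [show sigma * sigma * sigma = 1 by rw [← sigma_pow_three]; simp only [pow_succ, pow_zero, one_mul]]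
  simp

theorem mk_k0_ne_one : (QuotientGroup.mk k0 : Spor.Co1) ≠ 1 := by
  intro e
  obtain ⟨x, hx⟩ := perm_checks.2.2.2.1
  rcases center_cases ((QuotientGroup.eq_one_iff k0).1 e) with r | r
  · have := congrArg (fun v : leechLattice => (v : GolayPt → ℤ) (sigma x)) (congrArg (· • pt8 x) r)
    simp only [k0_smul, one_smul] at this
    rw [show ((pt8 x : leechLattice) : GolayPt → ℤ) = vec8 x from rfl, vec8, Pi.single_eq_same,
      Pi.single_eq_of_ne (by rw [sigma_apply]; exact hx)] at this
    norm_num at this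
  · have h3 := k0_pow_three
    rw [r, pow_succ, pow_two, signs_sq negCo_mem_signs, one_mul] at h3
    exact negCo_ne_one h3

/-- The centraliser of the automorphism. -/
noncomputable def cen : Subgroup Co0 := Subgroup.centralizer {k0}

theorem mem_cen_iff {c : Co0} : c ∈ cen ↔ c * k0 = k0 * c := Subgroup.mem_centralizer_singleton_iff

theorem negCo_mem_cen : negCo ∈ cen :=
  mem_cen_iff.2 (Subgroup.mem_center_iff.1 negCo_mem_center k0).symm

theorem k0_mem_cen : k0 ∈ cen := mem_cen_iff.2 rfl

/-- Basis vectors in the lattice. -/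
def bL (k : Fin 12) : leechLattice := ⟨bv k, leechChk_sound (basis_checks.1 k).1⟩

/-- Dual vectors in the lattice. -/
def gL (k : Fin 12) : leechLattice := ⟨gv k, leechChk_sound (basis_checks.1 k).2⟩

/-- The normalised inner product. -/
def ip (v w : leechLattice) : ℤ := dotInt (v : GolayPt → ℤ) (w : GolayPt → ℤ) / 8

theorem eight_ip (v w : leechLattice) :
    8 * ip v w = dotInt (v : GolayPt → ℤ) (w : GolayPt → ℤ) :=
  Int.mul_ediv_cancel' (Leech.dotInt_dvd v.2 w.2)

theorem ip_comm (v w : leechLattice) : ip v w = ip w v := by rw [ip, ip, dotInt_comm]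

theorem ip_smul (g : Co0) (v w : leechLattice) : ip (g • v) (g • w) = ip v w := by
  rw [ip, ip, Leech.dotInt_smul]

theorem ip_add_left (u v w : leechLattice) : ip (u + v) w = ip u w + ip v w := by
  have h := dotInt_add_left (u : GolayPt → ℤ) (v : GolayPt → ℤ) (w : GolayPt → ℤ)
  rw [← AddSubgroup.coe_add, ← eight_ip, ← eight_ip, ← eight_ip] at h
  omega

/-- Pairing with a fixed vector, as an additive map. -/
def ipHom (w : leechLattice) : leechLattice →+ ℤ :=
  AddMonoidHom.mk' (fun v => ip v w) fun u v => ip_add_left u v w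

/-- The coordinates of a vector. -/
def nvec (v : leechLattice) : Fin 12 → ℤ := fun k => ip v (gL k)

/-- A combination of the basis. -/
def comb (n : Fin 12 → ℤ) : leechLattice := ∑ k, n k • bL k

theorem ip_comb_left (n : Fin 12 → ℤ) (w : leechLattice) : ip (comb n) w = ∑ k, n k * ip (bL k) w := by
  show ipHom w (comb n) = _
  rw [comb, map_sum]
  exact Finset.sum_congr rfl fun k _ => by rw [map_zsmul, smul_eq_mul]; rfl

theorem ip_bL_gL (j k : Fin 12) : ip (bL j) (gL k) = if j = k then 1 else 0 := by
  rw [ip, bL, gL, basis_checks.2.1]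
  split <;> rfl

theorem ip_bL (i j : Fin 12) : ip (bL i) (bL j) = gram i j := by
  rw [ip, bL, bL, basis_checks.2.2.2]
  omega

theorem nvec_comb (n : Fin 12 → ℤ) : nvec (comb n) = n := by
  funext k
  rw [nvec, ip_comb_left, Finset.sum_eq_single k]
  · rw [ip_bL_gL, if_pos rfl, mul_one]
  · intro j _ hj; rw [ip_bL_gL, if_neg hj, mul_zero]
  · simp

theorem nvec_add (u v : leechLattice) : nvec (u + v) = nvec u + nvec v :=
  funext fun k => ip_add_left u v (gL k)

/-- The coordinates, as an additive map. -/
def nHom : leechLattice →+ (Fin 12 → ℤ) := AddMonoidHom.mk' nvec nvec_add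

theorem nHom_apply (v : leechLattice) : nHom v = nvec v := rfl

theorem nvec_bL (j : Fin 12) : nvec (bL j) = Pi.single j 1 := by
  funext k
  rw [nvec, ip_bL_gL, Pi.single_apply]
  by_cases h : j = k
  · rw [if_pos h, if_pos h.symm]
  · rw [if_neg h, if_neg (Ne.symm h)]

theorem fixed_orb {v : leechLattice} (hv : k0 • v = v) {x y : GolayPt} (e : orb x = orb y) :
    (v : GolayPt → ℤ) x = (v : GolayPt → ℤ) y := by
  have step : ∀ x, (v : GolayPt → ℤ) (sF x) = (v : GolayPt → ℤ) x := fun x => by
    conv_lhs => rw [← hv, ← sigma_apply, k0_smul]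
  rcases perm_checks.2.2.2.2 x y e with r | r | r <;> rw [← r]
  · rw [step]
  · rw [step, step]

theorem k0_comb (n : Fin 12 → ℤ) : k0 • comb n = comb n := by
  rw [comb, smul_sum']
  refine Finset.sum_congr rfl fun k _ => ?_
  rw [smul_zsmul']
  congr 1
  refine Subtype.ext (funext fun x => ?_)
  obtain ⟨y, rfl⟩ := sigma.surjective x
  rw [k0_smul]
  show bv k y = bv k (sigma y)
  rw [bv, bv, sigma_apply, perm_checks.2.1]

/-- The fixed lattice is spanned by the basis. -/
theorem eq_comb {v : leechLattice} (hv : k0 • v = v) : v = comb (nvec v) := by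
  classical
  refine Subtype.ext (funext fun x => ?_)
  let r : Fin 12 → ℤ := fun o => if h : ∃ y, orb y = o then (v : GolayPt → ℤ) h.choose else 0
  have hr : ∀ y, (v : GolayPt → ℤ) y = r (orb y) := fun y => by
    have h : ∃ y', orb y' = orb y := ⟨y, rfl⟩
    simp only [r, dif_pos h]
    exact fixed_orb hv h.choose_spec.symm
  have hdot : ∀ k, dotInt (v : GolayPt → ℤ) (gv k) = ∑ o, r o * dotInt (ind o) (gv k) := fun k => by
    simp only [dotInt, Finset.mul_sum]
    rw [Finset.sum_comm]
    refine Finset.sum_congr rfl fun y _ => ?_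
    rw [Finset.sum_eq_single (orb y)]
    · rw [hr y, ind, if_pos rfl, one_mul]
    · intro o _ ho; rw [ind, if_neg (Ne.symm ho)]; ring
    · simp
  have hR : ((comb (nvec v) : leechLattice) : GolayPt → ℤ) x = ∑ k, nvec v k * bv k x := by
    rw [comb, AddSubgroup.val_finsetSum, Finset.sum_apply]
    exact Finset.sum_congr rfl fun k _ => by simp [bL]
  have key : 8 * (v : GolayPt → ℤ) x = 8 * ((comb (nvec v) : leechLattice) : GolayPt → ℤ) x := by
    rw [hR, Finset.mul_sum]
    calc 8 * (v : GolayPt → ℤ) x = ∑ o, r o * (8 * ind o x) := by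
          rw [Finset.sum_eq_single (orb x)]
          · rw [ind, if_pos rfl, hr x]; ring
          · intro o _ ho; rw [ind, if_neg (Ne.symm ho)]; ring
          · simp
      _ = ∑ o, ∑ k, r o * (dotInt (ind o) (gv k) * bv k x) :=
          Finset.sum_congr rfl fun o _ => by rw [basis_checks.2.2.1, Finset.mul_sum]
      _ = ∑ k, 8 * (nvec v k * bv k x) := by
          rw [Finset.sum_comm]
          refine Finset.sum_congr rfl fun k _ => ?_
          rw [← mul_assoc, nvec, eight_ip]
          show _ = dotInt (v : GolayPt → ℤ) (gv k) * bv k x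
          rw [hdot, Finset.sum_mul]
          exact Finset.sum_congr rfl fun o _ => (mul_assoc _ _ _).symm
  omega

theorem fixed_smul (c : cen) {v : leechLattice} (hv : k0 • v = v) :
    k0 • ((c : Co0) • v) = (c : Co0) • v := by
  rw [← mul_smul, ← mem_cen_iff.1 c.2, mul_smul, hv]

/-- The average of a vector. -/
noncomputable def avg (v : leechLattice) : leechLattice := v + k0 • v + k0 • k0 • v

theorem k0_avg (v : leechLattice) : k0 • avg v = avg v := by
  have e : k0 • k0 • k0 • v = v := by
    rw [← mul_smul, ← mul_smul, show k0 * k0 * k0 = k0 ^ 3 by simp only [pow_succ, pow_zero, one_mul],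
      k0_pow_three, one_smul]
  rw [avg, smul_add', smul_add', e]
  abel

theorem avg_fixed {v : leechLattice} (hv : k0 • v = v) : avg v = v + (v + v) := by
  rw [avg, hv, hv, add_assoc]

theorem cong_avg {v : leechLattice} (hv : Cong (k0 • v) v) : Cong v (avg v) := by
  refine ((cong_add (cong_refl v) (cong_add hv ((hv.smul k0).trans hv))).trans ?_).symm.trans ?_
  · exact ⟨v, by abel⟩
  · rw [avg, add_assoc]; exact cong_refl _

/-- The class of a vector. -/
noncomputable def cls (v : leechLattice) : Fin 12 → ZMod 2 := fun k => ((nvec (avg v) k : ℤ) : ZMod 2)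

/-- A vector with a given class. -/
def rep (s : Fin 12 → ZMod 2) : leechLattice := comb fun k => ((s k).val : ℤ)

theorem k0_rep (s : Fin 12 → ZMod 2) : k0 • rep s = rep s := k0_comb _

theorem cls_comb (n : Fin 12 → ℤ) : cls (comb n) = fun k => ((n k : ℤ) : ZMod 2) := by
  funext k
  rw [cls, avg_fixed (k0_comb n), nvec_add, nvec_add, nvec_comb]
  simp only [Pi.add_apply, Int.cast_add, CharTwo.add_self_eq_zero, add_zero]

theorem cls_rep (s : Fin 12 → ZMod 2) : cls (rep s) = s := by
  rw [rep, cls_comb]
  funext k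
  simp

theorem cls_cong {v w : leechLattice} (e : Cong v w) : cls v = cls w := by
  obtain ⟨x, rfl⟩ := e
  have h : avg (w + (x + x)) = avg w + (avg x + avg x) := by
    simp only [avg, smul_add']; abel
  funext k
  simp only [cls, h, nvec_add, Pi.add_apply, Int.cast_add, CharTwo.add_self_eq_zero, add_zero]

theorem cong_comb {n m : Fin 12 → ℤ} (e : ∀ k, ((n k : ℤ) : ZMod 2) = ((m k : ℤ) : ZMod 2)) :
    Cong (comb n) (comb m) := by
  refine ⟨comb fun k => (n k - m k) / 2, ?_⟩
  simp only [comb, ← Finset.sum_add_distrib, ← add_smul]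
  refine Finset.sum_congr rfl fun k _ => ?_
  congr 1
  have := (ZMod.intCast_eq_intCast_iff' (n k) (m k) 2).1 (e k)
  omega

/-- A vector whose class is fixed is congruent to its representative. -/
theorem cong_rep {v : leechLattice} (hv : Cong (k0 • v) v) : Cong v (rep (cls v)) := by
  refine (cong_avg hv).trans ?_
  rw [eq_comb (k0_avg v)]
  refine cong_comb fun k => ?_
  simp [cls]

theorem cong_of_cls {v w : leechLattice} (hv : Cong (k0 • v) v) (hw : Cong (k0 • w) w)
    (e : cls v = cls w) : Cong v w :=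
  (cong_rep hv).trans (e ▸ (cong_rep hw).symm)

theorem cong_k0_fixed {v : leechLattice} (hv : k0 • v = v) : Cong (k0 • v) v := by
  rw [hv]; exact cong_refl v

/-- The action on the classes. -/
noncomputable def act (c : cen) (s : Fin 12 → ZMod 2) : Fin 12 → ZMod 2 := cls ((c : Co0) • rep s)

theorem act_cls (c : cen) {v : leechLattice} (hv : Cong (k0 • v) v) :
    act c (cls v) = cls ((c : Co0) • v) :=
  cls_cong ((cong_rep hv).smul _).symm

theorem act_mul (c d : cen) (s : Fin 12 → ZMod 2) : act (c * d) s = act c (act d s) := by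
  rw [act, Subgroup.coe_mul, mul_smul, ← act_cls c (cong_k0_fixed (fixed_smul d (k0_rep s)))]
  rfl

theorem act_one (s : Fin 12 → ZMod 2) : act 1 s = s := by
  rw [act, OneMemClass.coe_one, one_smul, cls_rep]

theorem cong_rep_add (s t : Fin 12 → ZMod 2) : Cong (rep s + rep t) (rep (s + t)) := by
  have e : rep s + rep t = comb (fun k => ((s k).val : ℤ) + ((t k).val : ℤ)) := by
    simp only [rep, comb, ← Finset.sum_add_distrib, ← add_smul]
  rw [e]
  refine cong_comb fun k => ?_
  simp

theorem act_add (c : cen) (s t : Fin 12 → ZMod 2) : act c (s + t) = act c s + act c t := by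
  have hfix : ∀ u, k0 • ((c : Co0) • rep u) = (c : Co0) • rep u := fun u => fixed_smul c (k0_rep u)
  rw [act, act, act, ← cls_cong ((cong_rep_add s t).smul (c : Co0)), smul_add']
  funext k
  have h : avg ((c : Co0) • rep s + (c : Co0) • rep t) =
      avg ((c : Co0) • rep s) + avg ((c : Co0) • rep t) := by
    simp only [avg, smul_add']; abel
  simp only [cls, h, nvec_add, Pi.add_apply, Int.cast_add]

theorem act_negCo (s : Fin 12 → ZMod 2) : act ⟨negCo, negCo_mem_cen⟩ s = s := by
  rw [act, negCo_smul, cls_cong (cong_neg _), cls_rep]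

theorem act_k0 (s : Fin 12 → ZMod 2) : act ⟨k0, k0_mem_cen⟩ s = s := by
  rw [act, k0_rep, cls_rep]

end Cfsg.Agent.Lib.MonsterType.Fischer
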