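import Cfsg.Agent.Lib.MonsterType.Fischer.Fix

/-!
Three elements of the centraliser and their matrices on the fixed lattice.
-/

set_option autoImplicit false

namespace Cfsg.Agent.Lib.MonsterType.Fischer

open Cfsg
open Cfsg.Agent.Lib
open Cfsg.Agent.Lib.Leech
open Cfsg.Agent.Lib.MonsterType.OddType

/-- An element given by a matrix commuting with the permutation. -/
structure MatGood (M : GolayPt → GolayPt → ℤ) : Prop where
  ok : matOk M
  okT : matOk fun i k => M k i
  orth : ∀ j k, (∑ i, M j i * M k i) = if j = k then 64 else 0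
  orth' : ∀ j k, (∑ i, M i j * M i k) = if j = k then 64 else 0
  comm : ∀ i x, M (sF i) (sF x) = M i x

/-- The automorphism given by such a matrix. -/
noncomputable def matC {M : GolayPt → GolayPt → ℤ} (hM : MatGood M) : cen :=
  ⟨matCo M hM.ok hM.okT hM.orth hM.orth', mem_cen_iff.2 (by
    have hpt : ∀ i, ((matCo M hM.ok hM.okT hM.orth hM.orth' • pt8 i : leechLattice) : GolayPt → ℤ)
        = M i := fun i => by
      show matMap M (vec8 i) = M i
      funext p
      simp only [matMap, matNum, vec8]
      rw [Finset.sum_eq_single i]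
      · rw [Pi.single_eq_same]; omega
      · intro j _ hj; rw [Pi.single_eq_of_ne hj, zero_mul]
      · simp
    have hk : ∀ i, k0 • pt8 i = pt8 (sigma i) := fun i => by
      rw [k0, monoCo_smul_pt8]
      simp
    refine co0_ext_pt8 fun i => Subtype.ext (funext fun q => ?_)
    obtain ⟨x, rfl⟩ := sigma.surjective q
    rw [mul_smul, mul_smul, hk, hpt, k0_smul, hpt, sigma_apply, sigma_apply]
    exact hM.comm i x)⟩

/-- The matrix generator. -/
def xM : GolayPt → GolayPt → ℤ := rowsM Data.gRows

/-- The matrix of order three. -/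
def omM : GolayPt → GolayPt → ℤ := rowsM Data.omRows

set_option maxHeartbeats 2000000 in
theorem xM_checks : (∀ i, matChk xM (vec44 i) = true) ∧ (∀ t, matChk xM (lift2 (qrWord t)) = true) ∧
    (matChk xM (lift2 1) = true ∧ matChk xM (vec31 none) = true) ∧
    (∀ j k, (∑ i, xM j i * xM k i) = if j = k then 64 else 0) ∧
    (∀ i x, xM (sF i) (sF x) = xM i x) ∧ ∀ j k, xM j k = xM k j := by
  refine ⟨?_, ?_, ?_, ?_, ?_, ?_⟩ <;> decide +kernel

set_option maxHeartbeats 2000000 in
theorem omM_checks : (∀ i, matChk omM (vec44 i) = true) ∧ (∀ t, matChk omM (lift2 (qrWord t)) = true) ∧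
    (matChk omM (lift2 1) = true ∧ matChk omM (vec31 none) = true) ∧
    (∀ j k, (∑ i, omM j i * omM k i) = if j = k then 64 else 0) ∧
    (∀ i x, omM (sF i) (sF x) = omM i x) := by
  refine ⟨?_, ?_, ?_, ?_, ?_⟩ <;> decide +kernel

set_option maxHeartbeats 2000000 in
theorem omM_checksT : (∀ i, matChk (fun a b => omM b a) (vec44 i) = true) ∧
    (∀ t, matChk (fun a b => omM b a) (lift2 (qrWord t)) = true) ∧
    (matChk (fun a b => omM b a) (lift2 1) = true ∧ matChk (fun a b => omM b a) (vec31 none) = true) ∧
    (∀ j k, (∑ i, omM i j * omM i k) = if j = k then 64 else 0) := by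
  refine ⟨?_, ?_, ?_, ?_⟩ <;> decide +kernel

theorem xM_good : MatGood xM where
  ok := ⟨xM_checks.1, xM_checks.2.1, xM_checks.2.2.1⟩
  okT := by
    rw [show (fun i k => xM k i) = xM from funext fun i => funext fun k => xM_checks.2.2.2.2.2 k i]
    exact ⟨xM_checks.1, xM_checks.2.1, xM_checks.2.2.1⟩
  orth := xM_checks.2.2.2.1
  orth' := fun j k => by
    simp only [xM_checks.2.2.2.2.2 _ j, xM_checks.2.2.2.2.2 _ k]
    exact xM_checks.2.2.2.1 j k
  comm := xM_checks.2.2.2.2.1

theorem omM_good : MatGood omM where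
  ok := ⟨omM_checks.1, omM_checks.2.1, omM_checks.2.2.1⟩
  okT := ⟨omM_checksT.1, omM_checksT.2.1, omM_checksT.2.2.1⟩
  orth := omM_checks.2.2.2.1
  orth' := omM_checksT.2.2.2
  comm := omM_checks.2.2.2.2

theorem perm_gen_checks : Golay.inM24 Data.tList = true ∧
    (∀ x, Golay.listFun Data.tList (sF x) = sF (Golay.listFun Data.tList x)) ∧
    ∀ x, Golay.listFun Data.tList (Golay.listFun Data.tInv x) = x := by
  refine ⟨?_, ?_, ?_⟩ <;> decide +kernel

/-- The generator given by a matrix. -/
noncomputable def gX : cen := matC xM_good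

/-- The element of order three. -/
noncomputable def gOm : cen := matC omM_good

/-- The generator given by a permutation. -/
noncomputable def gP : cen :=
  ⟨monoCo (Golay.toPerm Data.tList) (Golay.toPerm_mem_M24 perm_gen_checks.1) 0 (zero_mem _),
    mem_cen_iff.2 (by
      rw [k0, monoCo_mul, monoCo_mul]
      refine co0_ext_pt8 fun i => ?_
      rw [monoCo_smul_pt8, monoCo_smul_pt8]
      have e : Golay.toPerm Data.tList (sigma i) = sigma (Golay.toPerm Data.tList i) := by
        rw [sigma_apply, sigma_apply, Golay.toPerm_apply (Golay.inM24.valid perm_gen_checks.1),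
          Golay.toPerm_apply (Golay.inM24.valid perm_gen_checks.1)]
        exact perm_gen_checks.2.1 i
      simp [e])⟩

/-! ### Matrices on the fixed lattice -/

/-- A matrix of integers from rows. -/
def intM (l : List (List ℤ)) (k j : Fin 12) : ℤ := (l.getD k.val []).getD j.val 0

/-- The matrix of the first generator. -/
def aX : Fin 12 → Fin 12 → ℤ := intM (Data.acts.getD 0 [])

/-- The matrix of the second generator. -/
def aP : Fin 12 → Fin 12 → ℤ := intM (Data.acts.getD 1 [])

/-- The matrix of the element of order three. -/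
def aOm : Fin 12 → Fin 12 → ℤ := intM Data.omAct

/-- The values of a combination. -/
def combF (n : Fin 12 → ℤ) : GolayPt → ℤ := fun x => ∑ k, n k * bv k x

theorem coe_comb (n : Fin 12 → ℤ) : ((comb n : leechLattice) : GolayPt → ℤ) = combF n := by
  funext x
  rw [comb, AddSubgroup.val_finsetSum, Finset.sum_apply]
  exact Finset.sum_congr rfl fun k _ => by simp [bL]

/-- `A` is the matrix of `c`. -/
def ActsBy (c : cen) (A : Fin 12 → Fin 12 → ℤ) : Prop := ∀ k, (c : Co0) • bL k = comb (A k)

set_option maxHeartbeats 2000000 in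
theorem act_checks : (∀ k x, matMap xM (bv k) x = combF (aX k) x) ∧
    (∀ k x, bv k (Golay.listFun Data.tInv x) = combF (aP k) x) ∧
    (∀ k x, matMap omM (bv k) x = combF (aOm k) x) := by
  refine ⟨?_, ?_, ?_⟩ <;> decide +kernel

theorem actsBy_gX : ActsBy gX aX := fun k => Subtype.ext (by
  rw [coe_comb]; exact funext fun x => act_checks.1 k x)

theorem actsBy_gOm : ActsBy gOm aOm := fun k => Subtype.ext (by
  rw [coe_comb]; exact funext fun x => act_checks.2.2 k x)

theorem actsBy_gP : ActsBy gP aP := fun k => Subtype.ext (by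
  rw [coe_comb]
  funext x
  rw [gP, monoCo_smul]
  have e : (Golay.toPerm Data.tList).symm x = Golay.listFun Data.tInv x := by
    rw [Equiv.symm_apply_eq, Golay.toPerm_apply (Golay.inM24.valid perm_gen_checks.1),
      perm_gen_checks.2.2]
  rw [← act_checks.2.1 k x]
  simp [signedPerm, support₂, e, bL])

theorem ActsBy.smul_comb {c : cen} {A : Fin 12 → Fin 12 → ℤ} (h : ActsBy c A) (n : Fin 12 → ℤ) :
    (c : Co0) • comb n = comb fun j => ∑ k, n k * A k j := by
  rw [comb, smul_sum']
  calc ∑ k, (c : Co0) • (n k • bL k) = ∑ k, n k • comb (A k) :=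
        Finset.sum_congr rfl fun k _ => by rw [smul_zsmul', h k]
    _ = _ := by
      simp only [comb, Finset.smul_sum, Finset.sum_smul, mul_smul]
      exact Finset.sum_comm

/-- The action on classes as an additive map. -/
noncomputable def actHom (c : cen) : (Fin 12 → ZMod 2) →+ (Fin 12 → ZMod 2) :=
  AddMonoidHom.mk' (act c) (act_add c)

theorem comb_single (k : Fin 12) : comb (Pi.single k 1) = bL k := by
  rw [comb, Finset.sum_eq_single k]
  · simp
  · intro j _ hj; simp [hj]
  · simp

theorem k0_bL (k : Fin 12) : k0 • bL k = bL k := by rw [← comb_single, k0_comb]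

theorem cls_bL (k : Fin 12) : cls (bL k) = Pi.single k 1 := by
  rw [← comb_single, cls_comb]
  funext j
  by_cases e : j = k <;> simp [e]

theorem act_single (c : cen) (k : Fin 12) : act c (Pi.single k 1) = cls ((c : Co0) • bL k) := by
  rw [← cls_bL, act_cls c (cong_k0_fixed (k0_bL k))]

theorem ActsBy.act_single {c : cen} {A : Fin 12 → Fin 12 → ℤ} (h : ActsBy c A) (k : Fin 12) :
    act c (Pi.single k 1) = fun j => ((A k j : ℤ) : ZMod 2) := by
  rw [Fischer.act_single, h k, cls_comb]

end Cfsg.Agent.Lib.MonsterType.Fischer
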