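import Cfsg.Agent.Lib.MonsterType.Fischer.Ortho

/-!
The group induced on the classes: a subgroup of order three below a subgroup of index two with
projective special unitary quotient, and no non-trivial normal 2-subgroup.
-/

set_option autoImplicit false

namespace Cfsg.Agent.Lib.MonsterType.Fischer

open Cfsg
open Cfsg.Agent.Lib
open Cfsg.Agent.Lib.Leech
open Matrix
open scoped commutatorElement

/-- The centraliser acting on the classes. -/
noncomputable def actP : cen →* Equiv.Perm (Fin 12 → ZMod 2) :=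
  MulAction.toPermHom cen (Fin 12 → ZMod 2)

/-- The group induced on the classes. -/
abbrev T : Type := cen ⧸ actP.ker

/-- The projection. -/
noncomputable def phi : cen →* T := QuotientGroup.mk' actP.ker

theorem phi_surjective : Function.Surjective phi := QuotientGroup.mk'_surjective _

theorem phi_eq_one_iff (c : cen) : phi c = 1 ↔ ∀ s, act c s = s := by
  rw [phi, QuotientGroup.mk'_apply, QuotientGroup.eq_one_iff, MonoidHom.mem_ker, Equiv.ext_iff]
  rfl

/-- Negation in the centraliser. -/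
noncomputable abbrev negC : cen := ⟨negCo, negCo_mem_cen⟩

/-- The automorphism in the centraliser. -/
noncomputable abbrev k0C : cen := ⟨k0, k0_mem_cen⟩

theorem phi_of_trivial {c : cen} (h : ∀ s, act c s = s) : phi c = 1 := (phi_eq_one_iff c).2 h

theorem eq_of_phi_eq_one {c : cen} (h : phi c = 1) :
    ∃ i : ℤ, c = k0C ^ i ∨ c = negC * k0C ^ i := by
  obtain ⟨i, hi⟩ := eq_of_trivial ((phi_eq_one_iff c).1 h)
  exact ⟨i, hi.imp (fun e => Subtype.ext (by rw [e, SubgroupClass.coe_zpow]))
    (fun e => Subtype.ext (by rw [e, Subgroup.coe_mul, SubgroupClass.coe_zpow]))⟩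

theorem card_phi_ker : Nat.card phi.ker = 6 := by
  haveI := finite_co0
  have h2 : orderOf negC = 2 :=
    (orderOf_injective cen.subtype cen.subtype_injective negC).symm.trans
      (orderOf_eq_prime (by rw [pow_two]; exact signs_sq negCo_mem_signs) negCo_ne_one)
  have hcomm : Commute negC k0C := (Subtype.ext (mem_cen_iff.1 negCo_mem_cen) : negC * k0C = k0C * negC)
  have ho : orderOf (negC * k0C) = 6 := by
    rw [hcomm.orderOf_mul_eq_mul_orderOf_of_coprime (by rw [h2, orderOf_k0]; norm_num), h2, orderOf_k0]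
  rw [← ho, ← Nat.card_zpowers]
  refine congrArg (fun H : Subgroup cen => Nat.card H) (le_antisymm ?_ ?_)
  · intro c hc
    obtain ⟨i, hi⟩ := eq_of_phi_eq_one (MonoidHom.mem_ker.1 hc)
    have hn : negC = (negC * k0C) ^ 3 := by
      rw [hcomm.mul_pow, ← orderOf_k0, pow_orderOf_eq_one, orderOf_k0, mul_one, pow_succ, pow_two,
        show negC * negC = 1 by rw [← pow_two, ← h2, pow_orderOf_eq_one], one_mul]
    have hk : k0C = (negC * k0C) ^ 4 := by
      rw [hcomm.mul_pow, show negC ^ 4 = (negC ^ 2) ^ 2 by rw [← pow_mul], ← h2, pow_orderOf_eq_one,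
        one_pow, one_mul, pow_succ, show k0C ^ 3 = 1 by rw [← orderOf_k0, pow_orderOf_eq_one], one_mul]
    have hn' : negC ∈ Subgroup.zpowers (negC * k0C) := ⟨3, (zpow_natCast (negC * k0C) 3).trans hn.symm⟩
    have hk' : k0C ∈ Subgroup.zpowers (negC * k0C) := ⟨4, (zpow_natCast (negC * k0C) 4).trans hk.symm⟩
    rcases hi with rfl | rfl
    · exact zpow_mem hk' i
    · exact mul_mem hn' (zpow_mem hk' i)
  · rw [Subgroup.zpowers_le, MonoidHom.mem_ker, map_mul, phi_of_trivial act_negCo,
      phi_of_trivial act_k0, one_mul]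

/-! ### Minus the identity -/

/-- A matrix from numbers, transposed. -/
def tMat (i : ℕ) : Matrix I6 I6 (ZMod 3) :=
  Matrix.of fun a b => ((((Data.comm.getD i []).getD (aIdx b) []).getD (aIdx a) 0 : ℕ) : ZMod 3)

theorem tMat_checks : tMat 0 * tMat 2 = 1 ∧ tMat 2 * tMat 0 = 1 ∧ tMat 1 * tMat 3 = 1 ∧
    tMat 3 * tMat 1 = 1 ∧ tMat 3 * tMat 2 * tMat 1 * tMat 0 = -1 := by
  refine ⟨?_, ?_, ?_, ?_, ?_⟩ <;> decide +kernel

theorem tMat_iso : (∀ x, qf (tMat 0 *ᵥ x) = qf x) ∧ ∀ x, qf (tMat 1 *ᵥ x) = qf x := by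
  refine ⟨?_, ?_⟩ <;> decide +kernel

/-- The first isometry. -/
def uA : (Matrix I6 I6 (ZMod 3))ˣ := ⟨tMat 0, tMat 2, tMat_checks.1, tMat_checks.2.1⟩

/-- The second isometry. -/
def uB : (Matrix I6 I6 (ZMod 3))ˣ := ⟨tMat 1, tMat 3, tMat_checks.2.2.1, tMat_checks.2.2.2.1⟩

theorem rho_negC_mem : rho negC ∈ Omega (ZMod 3) qf := by
  let A : isometryGroup (ZMod 3) qf := ⟨uA, fun u _ => tMat_iso.1 u⟩
  let B : isometryGroup (ZMod 3) qf := ⟨uB, fun u _ => tMat_iso.2 u⟩
  have e : rho negC = ⁅B⁻¹, A⁻¹⁆ := by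
    refine Subtype.ext (Units.ext ?_)
    show rhoMat negC = _
    rw [commutatorElement_def]
    show rhoMat negC = tMat 3 * tMat 2 * tMat 1 * tMat 0
    rw [tMat_checks.2.2.2.2]
    refine mat_ext fun a => ?_
    rw [← co_smul_eq negC (k0_eL a)]
    show co (negCo • eL a) = _
    rw [negCo_smul, Matrix.neg_mulVec, Matrix.one_mulVec]
    funext b
    simp only [co, Pi.neg_apply]
    rw [show ip (-eL a) (wL b) = -ip (eL a) (wL b) from map_neg (ipHom (wL b)) (eL a), Int.cast_neg]
  rw [e]
  exact Subgroup.commutator_mem_commutator (Subgroup.mem_top _) (Subgroup.mem_top _)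

theorem rho_negC_ne_one : rho negC ≠ 1 := by
  intro e
  have h := congrFun ((rho_eq_one_iff negC).1 e 0) (.inl (.inl 0))
  rw [show ((negC : cen) : Co0) • bL 0 = -bL 0 from negCo_smul _, comb_neg_bL, co_bL] at h
  exact (by decide +kernel : ¬ ((-coT (.inl (.inl 0)) 0 : ℤ) : ZMod 3) = (coT (.inl (.inl 0)) 0 : ZMod 3)) h
where
  comb_neg_bL : co (-bL 0) (.inl (.inl 0)) = ((-coT (.inl (.inl 0)) 0 : ℤ) : ZMod 3) := by
    rw [Int.cast_neg, ← congrFun (co_bL 0) (.inl (.inl 0))]
    simp only [co]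
    rw [show ip (-bL 0) (wL (.inl (.inl 0))) = -ip (bL 0) (wL (.inl (.inl 0))) from
      map_neg (ipHom _) _, Int.cast_neg]

theorem rho_negC_central (x : isometryGroup (ZMod 3) qf) (hx : x ∈ rho.range) :
    x * rho negC = rho negC * x := by
  obtain ⟨c, rfl⟩ := hx
  rw [← map_mul, ← map_mul]
  exact congrArg rho (Subtype.ext (Subgroup.mem_center_iff.1 negCo_mem_center (c : Co0)))

/-! ### The subgroups -/

/-- The preimage of `Ω`. -/
noncomputable def mc : Subgroup cen := (Omega (ZMod 3) qf).comap rho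

/-- The map onto `Ω`. -/
noncomputable def toOmega : mc →* Omega (ZMod 3) qf :=
  (rho.comp mc.subtype).codRestrict _ fun c => c.2

theorem toOmega_surjective : Function.Surjective toOmega := by
  rintro ⟨x, hx⟩
  obtain ⟨c, hc⟩ := omega_le_range hx
  exact ⟨⟨c, show rho c ∈ Omega (ZMod 3) qf by rw [hc]; exact hx⟩, Subtype.ext hc⟩

/-- The map onto `PΩ`. -/
noncomputable def toPOmega : mc →* POmega (ZMod 3) qf :=
  (QuotientGroup.mk' (Subgroup.center (Omega (ZMod 3) qf))).comp toOmega

theorem toPOmega_surjective : Function.Surjective toPOmega :=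
  (QuotientGroup.mk'_surjective _).comp toOmega_surjective

theorem card_center : Nat.card (Subgroup.center (Omega (ZMod 3) qf)) = 2 := by
  have h := Subgroup.card_eq_card_quotient_mul_card_subgroup (Subgroup.center (Omega (ZMod 3) qf))
  obtain ⟨e⟩ := Classical.LowRank.nonempty_POmega_minus_six (K := UThreeThree.Nine) (q := 3)
    (ZMod.card 3) (by rw [UThreeThree.card_nine]; norm_num) 0 1 aniso_three
  rw [card_Omega, show Nat.card (Omega (ZMod 3) qf ⧸ Subgroup.center (Omega (ZMod 3) qf)) = 3265920 from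
    (Nat.card_congr e.toEquiv).trans card_PSU] at h
  omega

theorem negC_mem_toPOmega_ker : (⟨negC, rho_negC_mem⟩ : mc) ∈ toPOmega.ker := by
  rw [MonoidHom.mem_ker, toPOmega, MonoidHom.comp_apply, QuotientGroup.mk'_apply,
    QuotientGroup.eq_one_iff, Subgroup.mem_center_iff]
  intro g
  exact Subtype.ext (rho_negC_central g.1 (omega_le_range g.2))

/-- The smaller subgroup of the induced group. -/
noncomputable def nT : Subgroup T := (toPOmega.ker.map mc.subtype).map phi

/-- The larger subgroup of the induced group. -/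
noncomputable def mT : Subgroup T := mc.map phi

instance mc_normal : mc.Normal := (inferInstance : (Omega (ZMod 3) qf).Normal).comap rho

theorem nc_normal : (toPOmega.ker.map mc.subtype).Normal := by
  have e : ∀ c : cen, c ∈ toPOmega.ker.map mc.subtype ↔
      rho c ∈ (Subgroup.center (Omega (ZMod 3) qf)).map (Omega (ZMod 3) qf).subtype := by
    intro c
    constructor
    · rintro ⟨d, hd, rfl⟩
      refine ⟨toOmega d, ?_, rfl⟩
      exact (QuotientGroup.eq_one_iff (toOmega d)).1 hd
    · rintro ⟨x, hx, hxc⟩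
      refine ⟨⟨c, show rho c ∈ Omega (ZMod 3) qf by rw [← hxc]; exact x.2⟩, ?_, rfl⟩
      refine (QuotientGroup.eq_one_iff _).2 ?_
      have h' : ∀ h, toOmega ⟨c, h⟩ = x := fun h => Subtype.ext hxc.symm
      exact (congrArg (· ∈ Subgroup.center (Omega (ZMod 3) qf)) (h' _)).mpr hx
  refine ⟨fun n hn g => ?_⟩
  rw [e] at hn ⊢
  rw [map_mul, map_mul, map_inv]
  haveI : ((Subgroup.center (Omega (ZMod 3) qf)).map (Omega (ZMod 3) qf).subtype).Normal :=
    ConjAct.normal_of_characteristic_of_normal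
  exact Subgroup.Normal.conj_mem inferInstance _ hn _

instance nT_normal : nT.Normal := nc_normal.map phi phi_surjective

instance mT_normal : mT.Normal := mc_normal.map phi phi_surjective

theorem card_toPOmega_ker : Nat.card toPOmega.ker = 18 := by
  have hc := card_center
  let f : toPOmega.ker →* Subgroup.center (Omega (ZMod 3) qf) :=
    (toOmega.comp toPOmega.ker.subtype).codRestrict _ fun c => (QuotientGroup.eq_one_iff _).1 c.2
  have hf : Function.Surjective f := by
    rintro ⟨x, hx⟩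
    obtain ⟨c, rfl⟩ := toOmega_surjective x
    exact ⟨⟨c, (QuotientGroup.eq_one_iff _).2 hx⟩, rfl⟩
  have hk : Nat.card f.ker = 9 := by
    rw [← card_ker]
    refine Nat.card_congr
      { toFun := fun c => ⟨c.1.1.1, ?_⟩
        invFun := fun c => ⟨⟨⟨c.1, show rho c.1 ∈ Omega (ZMod 3) qf by
            rw [MonoidHom.mem_ker.1 c.2]; exact one_mem _⟩, ?_⟩, ?_⟩
        left_inv := fun _ => rfl
        right_inv := fun _ => rfl }
    · exact congrArg (fun x : Subgroup.center (Omega (ZMod 3) qf) =>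
        ((x : Omega (ZMod 3) qf) : isometryGroup (ZMod 3) qf)) c.2
    · refine (QuotientGroup.eq_one_iff _).2 ?_
      have h' : ∀ h, toOmega ⟨c.1, h⟩ = 1 := fun h => Subtype.ext (MonoidHom.mem_ker.1 c.2)
      exact (congrArg (· ∈ Subgroup.center (Omega (ZMod 3) qf)) (h' _)).mpr (one_mem _)
    · exact Subtype.ext (Subtype.ext (MonoidHom.mem_ker.1 c.2))
  rw [← f.ker.card_mul_index, hk, Subgroup.index_ker, MonoidHom.range_eq_top.2 hf, Subgroup.card_top,
    hc]

theorem phi_ker_le : phi.ker ≤ toPOmega.ker.map mc.subtype := by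
  intro c hc
  have hn : negC ∈ toPOmega.ker.map mc.subtype := ⟨_, negC_mem_toPOmega_ker, rfl⟩
  have hk : k0C ∈ toPOmega.ker.map mc.subtype := by
    refine ⟨⟨k0C, show rho k0C ∈ Omega (ZMod 3) qf by rw [rho_k0]; exact one_mem _⟩, ?_, rfl⟩
    refine (QuotientGroup.eq_one_iff _).2 ?_
    have h' : ∀ h, toOmega ⟨k0C, h⟩ = 1 := fun h => Subtype.ext rho_k0
    exact (congrArg (· ∈ Subgroup.center (Omega (ZMod 3) qf)) (h' _)).mpr (one_mem _)
  obtain ⟨i, rfl | rfl⟩ := eq_of_phi_eq_one (MonoidHom.mem_ker.1 hc)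
  · exact zpow_mem hk i
  · exact mul_mem hn (zpow_mem hk i)

theorem nT_le : nT ≤ mT := Subgroup.map_mono (Subgroup.map_subtype_le _)

theorem card_nT : Nat.card nT = 3 := by
  haveI := finite_co0
  set Nc := toPOmega.ker.map mc.subtype with hNc
  have h18 : Nat.card Nc = 18 := by
    rw [Subgroup.card_map_of_injective mc.subtype_injective, card_toPOmega_ker]
  have h := (phi.subgroupMap Nc).ker.card_mul_index
  rw [Subgroup.index_ker, MonoidHom.range_eq_top.2 (phi.subgroupMap_surjective Nc), Subgroup.card_top,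
    h18] at h
  have hk : Nat.card (phi.subgroupMap Nc).ker = 6 := by
    rw [← card_phi_ker]
    exact Nat.card_congr
      { toFun := fun c => ⟨c.1.1, congrArg Subtype.val c.2⟩
        invFun := fun c => ⟨⟨c.1, phi_ker_le c.2⟩, Subtype.ext c.2⟩
        left_inv := fun _ => rfl
        right_inv := fun _ => rfl }
  rw [hk] at h
  show Nat.card (Nc.map phi) = 3
  omega

theorem card_mc : Nat.card mc = 58786560 := by
  rw [← toOmega.ker.card_mul_index, Subgroup.index_ker, MonoidHom.range_eq_top.2 toOmega_surjective,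
    Subgroup.card_top, card_Omega]
  rw [show Nat.card toOmega.ker = 9 from ?_]
  rw [← card_ker]
  exact Nat.card_congr
    { toFun := fun c => ⟨c.1.1, congrArg Subtype.val c.2⟩
      invFun := fun c => ⟨⟨c.1, show rho c.1 ∈ Omega (ZMod 3) qf by
        rw [MonoidHom.mem_ker.1 c.2]; exact one_mem _⟩, Subtype.ext c.2⟩
      left_inv := fun _ => rfl
      right_inv := fun _ => rfl }

theorem index_mT : mT.index = 2 := by
  have h := mc.card_mul_index
  rw [card_mc, card_cen] at h
  rw [mT, Subgroup.index_map_eq _ phi_surjective (phi_ker_le.trans (Subgroup.map_subtype_le _))]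
  omega

theorem exists_psu : ∃ f : mT →* PSU 4 UThreeThree.Nine 3,
    Function.Surjective f ∧ f.ker = nT.subgroupOf mT := by
  haveI := finite_co0
  obtain ⟨e⟩ : Nonempty (POmega (ZMod 3) qf ≃* PSU 4 UThreeThree.Nine 3) :=
    Classical.LowRank.nonempty_POmega_minus_six (K := UThreeThree.Nine) (q := 3)
      (ZMod.card 3) (by rw [UThreeThree.card_nine]; norm_num) 0 1 aniso_three
  let ψ : mc →* PSU 4 UThreeThree.Nine 3 := e.toMonoidHom.comp toPOmega
  have hψ : Function.Surjective ψ := e.surjective.comp toPOmega_surjective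
  have hker : (phi.subgroupMap mc).ker ≤ ψ.ker := by
    intro c hc
    obtain ⟨d, hd, hdc⟩ := phi_ker_le (show (c : cen) ∈ phi.ker from congrArg Subtype.val hc)
    rw [show c = d from Subtype.ext hdc.symm, MonoidHom.mem_ker]
    show e (toPOmega d) = 1
    rw [MonoidHom.mem_ker.1 hd, map_one]
  let f := (phi.subgroupMap mc).liftOfSurjective (phi.subgroupMap_surjective mc) ⟨ψ, hker⟩
  have hf : ∀ c, f (phi.subgroupMap mc c) = ψ c :=
    fun c => MonoidHom.liftOfRightInverse_comp_apply _ _ _ _ c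
  refine ⟨f, fun x => ?_, ?_⟩
  · obtain ⟨c, rfl⟩ := hψ x
    exact ⟨_, hf c⟩
  · ext x
    obtain ⟨c, rfl⟩ := phi.subgroupMap_surjective mc x
    show f (phi.subgroupMap mc c) = 1 ↔ phi (c : cen) ∈ nT
    constructor
    · intro h
      exact ⟨c, ⟨c, e.injective (((hf c).symm.trans h).trans (map_one e).symm), rfl⟩, rfl⟩
    · rintro ⟨d, hd, hdc⟩
      obtain ⟨d', hd', rfl⟩ := hd
      refine (hf c).trans ?_
      have hq : (c : cen)⁻¹ * d' ∈ phi.ker := by
        rw [MonoidHom.mem_ker, map_mul, map_inv, show phi (d' : cen) = phi c from hdc, inv_mul_cancel]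
      obtain ⟨r, hr, hrc⟩ := phi_ker_le hq
      rw [show c = d' * r⁻¹ from Subtype.ext (by
        rw [Subgroup.coe_mul, Subgroup.coe_inv, show (r : cen) = (c : cen)⁻¹ * d' from hrc]
        group)]
      show e (toPOmega (d' * r⁻¹)) = 1
      rw [map_mul, map_inv, MonoidHom.mem_ker.1 hd', MonoidHom.mem_ker.1 hr, inv_one, mul_one, map_one]

/-! ### No normal 2-subgroup -/

/-- The trees of the three orbits. -/
def trees : Fin 3 → List (ℕ × ℕ × ℕ) := ![Data.tree0, Data.tree1, Data.tree2]

theorem trees_ok : ∀ r, Bits.treeOk (trees r) = true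
  | 0 => Bits.tree0_ok
  | 1 => Bits.tree1_ok
  | 2 => Bits.tree2_ok

theorem spans_ok : ∀ (r : Fin 3) (k : Fin 12),
    (∀ i ∈ (Data.spans.getD r.val []).getD k.val [], i < (trees r).length) ∧
    ((Data.spans.getD r.val []).getD k.val []).foldr (fun i acc => (entry (trees r) i).1 ^^^ acc) 0 =
      2 ^ k.val := by
  decide +kernel

theorem exists_root_reach {s : Fin 12 → ZMod 2} (hs : s ≠ 0) :
    ∃ r : Fin 3, ∃ c : cen, s = act c (Bits.ofBits (entry (trees r) 0).1) := by
  rcases class_cases hs with ⟨i, hi, rfl⟩ | h | ⟨c, rfl⟩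
  · obtain ⟨c, hc⟩ := tree_reach Bits.tree0_ok i (by rw [Bits.tree_sizes.1]; exact hi)
    exact ⟨0, c, by rw [cls_short hi]; exact hc⟩
  · obtain ⟨c, rfl⟩ := reach_omega h
    refine ⟨1, c, ?_⟩
    rw [s1_eq]
    congr 2
  · refine ⟨2, c, ?_⟩
    rw [cls_comb, show (fun k => ((root 2 k : ℤ) : ZMod 2)) = Bits.ofBits 3072 from funext root_checks.2.1]
    congr 2

theorem no_two_core : ∀ N : Subgroup T, N.Normal → IsPGroup 2 N → N = ⊥ := by
  intro N hN h2
  haveI := finite_co0
  haveI : Fact (Nat.Prime 2) := ⟨Nat.prime_two⟩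
  letI : MulAction T (Fin 12 → ZMod 2) :=
    MulAction.compHom _ (QuotientGroup.kerLift actP)
  have hsm : ∀ (c : cen) (s : Fin 12 → ZMod 2), phi c • s = act c s := fun _ _ => rfl
  set F : Set (Fin 12 → ZMod 2) := {s | ∀ n ∈ N, n • s = s}
  have hF0 : (0 : Fin 12 → ZMod 2) ∈ F := fun n _ => by
    obtain ⟨c, rfl⟩ := phi_surjective n
    rw [hsm]
    exact map_zero (actHom c)
  have hFadd : ∀ {s t}, s ∈ F → t ∈ F → s + t ∈ F := fun {s t} hs ht n hn => by
    obtain ⟨c, rfl⟩ := phi_surjective n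
    have e1 := hs _ hn
    have e2 := ht _ hn
    rw [hsm] at e1 e2 ⊢
    rw [act_add, e1, e2]
  have hFinv : ∀ {s} (c : cen), s ∈ F → act c s ∈ F := fun {s} c hs n hn => by
    rw [← hsm, ← mul_smul, show n * phi c = phi c * ((phi c)⁻¹ * n * phi c) by group, mul_smul,
      hs _ (by simpa using hN.conj_mem n hn (phi c)⁻¹)]
  obtain ⟨s, hs, hs0⟩ := h2.exists_fixed_point_of_prime_dvd_card_of_fixed_point (Fin 12 → ZMod 2)
    (by simp) (a := 0) (fun n => hF0 n.1 n.2)
  obtain ⟨r, c, hc⟩ := exists_root_reach (Ne.symm hs0)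
  have hroot : Bits.ofBits (entry (trees r) 0).1 ∈ F := by
    have hsF : s ∈ F := fun n hn => hs ⟨n, hn⟩
    have := hFinv c⁻¹ hsF
    rwa [hc, ← act_mul, inv_mul_cancel, act_one] at this
  have hall : ∀ i < (trees r).length, Bits.ofBits (entry (trees r) i).1 ∈ F := fun i hi => by
    obtain ⟨d, hd⟩ := tree_reach (trees_ok r) i hi
    rw [hd]
    exact hFinv d hroot
  have hunit : ∀ k : Fin 12, (Pi.single k 1 : Fin 12 → ZMod 2) ∈ F := fun k => by
    obtain ⟨h1, h2⟩ := spans_ok r k
    rw [← Bits.ofBits_two_pow k, ← h2]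
    clear h2
    generalize ((Data.spans.getD r.val []).getD k.val []) = l at h1 ⊢
    induction l with
    | nil => rw [List.foldr_nil, Bits.ofBits_zero]; exact hF0
    | cons i l ih =>
      rw [List.foldr_cons, Bits.ofBits_xor]
      exact hFadd (hall i (h1 i List.mem_cons_self)) (ih fun j hj => h1 j (List.mem_cons_of_mem _ hj))
  refine (Subgroup.eq_bot_iff_forall _).2 fun n hn => ?_
  obtain ⟨d, rfl⟩ := phi_surjective n
  refine phi_of_trivial fun t => ?_
  have e : t = ∑ k, Pi.single k (t k) := (Finset.univ_sum_single t).symm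
  show actHom d t = t
  conv_rhs => rw [e]
  conv_lhs => rw [e]
  rw [map_sum]
  refine Finset.sum_congr rfl fun k _ => ?_
  rcases Leech.zmod2_cases (t k) with q | q
  · rw [q, Pi.single_zero, map_zero]
  · rw [q]
    exact hunit k _ hn

end Cfsg.Agent.Lib.MonsterType.Fischer
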