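import Cfsg.Agent.Lib.MonsterType.Fischer.Coords
import Cfsg.Agent.Lib.MonsterType.Fischer.Count

/-!
The kernels of the actions of the centraliser modulo three and modulo two.
-/

set_option autoImplicit false

namespace Cfsg.Agent.Lib.MonsterType.Fischer

open Cfsg
open Cfsg.Agent.Lib
open Cfsg.Agent.Lib.Leech

/-! ### Elements fixing the fixed lattice -/

set_option maxHeartbeats 1000000 in
theorem orbit_perms : (Golay.ClassData.wit3f6.all fun a => Golay.ClassData.cent3f6.all fun b =>
    !(decide (∀ x, orb (Golay.listFun a (Golay.listFun b x)) = orb x)) ||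
      (decide (∀ x, Golay.listFun a (Golay.listFun b x) = x) ||
        (decide (∀ x, Golay.listFun a (Golay.listFun b x) = sF x) ||
          decide (∀ x, Golay.listFun a (Golay.listFun b x) = sF (sF x))))) = true := by
  decide +kernel

theorem orbit_perm {τ : Equiv.Perm GolayPt} (hτ : τ ∈ Golay.Classes.centM24 sl)
    (horb : ∀ x, orb (τ x) = orb x) : τ = 1 ∨ τ = sigma ∨ τ = sigma * sigma := by
  obtain ⟨a, ha, b, hb, rfl⟩ := Golay.Classes.cent_factor Golay.Classes.cent3f6_ok hτ
  have hv : Golay.validList a = true ∧ Golay.validList b = true := by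
    have h := Golay.Classes.cent3f6_ok
    simp only [Golay.Classes.centOK, Golay.Classes.commTest, Bool.and_eq_true, List.all_eq_true] at h
    obtain ⟨⟨⟨⟨⟨⟨-, hw⟩, hc⟩, -⟩, -⟩, -⟩, -⟩ := h
    exact ⟨Golay.inM24.valid (hw a ha).1, Golay.inM24.valid (hc b hb).1.1.1⟩
  have e : ∀ x, (Golay.toPerm a * Golay.toPerm b) x = Golay.listFun a (Golay.listFun b x) := fun x => by
    rw [Equiv.Perm.mul_apply, Golay.toPerm_apply hv.1, Golay.toPerm_apply hv.2]
  have h := orbit_perms
  simp only [List.all_eq_true, Bool.or_eq_true, decide_eq_true_eq, Bool.not_eq_true',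
    decide_eq_false_iff_not] at h
  rcases (h a ha b hb).resolve_left (not_not.2 fun x => by rw [← e]; exact horb x) with r | r | r
  · exact Or.inl (Equiv.ext fun x => by rw [e, r]; rfl)
  · exact Or.inr (Or.inl (Equiv.ext fun x => by rw [e, r, sigma_apply]))
  · exact Or.inr (Or.inr (Equiv.ext fun x => by
      rw [e, r, Equiv.Perm.mul_apply, sigma_apply, sigma_apply]))

theorem vals_avg_pt8 (i y : GolayPt) : ((avg (pt8 i) : leechLattice) : GolayPt → ℤ) y =
    vec8 i y + vec8 (sigma i) y + vec8 (sigma (sigma i)) y := by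
  rw [avg, k0_pt8, k0_pt8]
  rfl

theorem avg_nonneg (i y : GolayPt) : 0 ≤ ((avg (pt8 i) : leechLattice) : GolayPt → ℤ) y := by
  rw [vals_avg_pt8]
  simp only [vec8, Pi.single_apply]
  split_ifs <;> norm_num

theorem avg_pos (i : GolayPt) : 0 < ((avg (pt8 i) : leechLattice) : GolayPt → ℤ) i := by
  rw [vals_avg_pt8]
  simp only [vec8, Pi.single_apply, if_true]
  split_ifs <;> norm_num

theorem orb_of_avg_ne {i y : GolayPt} (h : ((avg (pt8 i) : leechLattice) : GolayPt → ℤ) y ≠ 0) :
    orb y = orb i := by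
  rw [vals_avg_pt8] at h
  simp only [vec8, Pi.single_apply] at h
  have e : ∀ x, orb (sigma x) = orb x := fun x => by rw [sigma_apply]; exact perm_checks.2.1 x
  by_contra hne
  rw [if_neg fun r => hne (by rw [r]), if_neg fun r => hne (by rw [r, e]),
    if_neg fun r => hne (by rw [r, e, e])] at h
  exact h rfl

theorem fixes_all {d : cen} (h : ∀ k, (d : Co0) • bL k = bL k) {v : leechLattice} (hv : k0 • v = v) :
    (d : Co0) • v = v := by
  conv_lhs => rw [eq_comb hv]
  conv_rhs => rw [eq_comb hv]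
  rw [comb, smul_sum']
  exact Finset.sum_congr rfl fun k _ => by rw [smul_zsmul', h k]

theorem mem_zpowers_of_fixes {d : cen} (h : ∀ k, (d : Co0) • bL k = bL k) :
    (d : Co0) ∈ Subgroup.zpowers k0 := by
  have hcs : (d : Co0) ∈ crossStab := by
    rw [mem_crossStab_iff]
    have hc := cong_avg cong_k0_pt8
    refine (hc.smul (d : Co0)).trans ?_
    rw [fixes_all h (k0_avg _)]
    exact hc.symm
  obtain ⟨τ, hτ, w, hw, e⟩ := exists_mono_of_mem_crossStab hcs
  have hrel := mem_cen_iff.1 d.2
  rw [e, k0, monoCo_mul, monoCo_mul] at hrel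
  obtain ⟨h1, -⟩ := monoCo_injective hrel
  have key : ∀ i, w (τ i) = 0 ∧ orb (τ i) = orb i := by
    intro i
    have hA := fixes_all h (k0_avg (pt8 i))
    rw [e] at hA
    have hv := congrArg (fun v : leechLattice => (v : GolayPt → ℤ) (τ i)) hA
    simp only [monoCo_smul] at hv
    have h0 := avg_nonneg i (τ i)
    have hp := avg_pos i
    rcases zmod2_cases (w (τ i)) with r | r
    · refine ⟨r, orb_of_avg_ne ?_⟩
      simp [signedPerm, support₂, r] at hv
      omega
    · exfalso
      simp [signedPerm, support₂, r] at hv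
      omega
  have hw0 : w = 0 := funext fun x => by
    obtain ⟨i, rfl⟩ := τ.surjective x
    exact (key i).1
  subst hw0
  rcases orbit_perm (Golay.Classes.mem_centM24.2 ⟨hτ, h1⟩) (fun x => (key x).2) with r | r | r
  · subst r
    have e1 : (d : Co0) = 1 := by
      rw [e]
      refine co0_ext_pt8 fun i => ?_
      rw [monoCo_smul_pt8, one_smul]
      simp
    rw [e1]
    exact one_mem _
  · subst r
    rw [e]
    exact Subgroup.mem_zpowers k0
  · subst r
    have e1 : (d : Co0) = k0 * k0 := by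
      rw [e, k0, monoCo_mul]
      congr 1
    rw [e1]
    exact mul_mem (Subgroup.mem_zpowers k0) (Subgroup.mem_zpowers k0)

/-! ### Trivial modulo three -/

/-- The images of a basis vector under the powers of the element of order three. -/
def pw (k : Fin 12) : Fin 3 → Fin 12 → ℤ :=
  ![fun j => if j = k then 1 else 0, aOm k, fun j => ∑ l, aOm k l * aOm l j]

/-- Whether a vector has the coordinates of a basis vector. -/
def sameCo (n : Fin 12 → ℤ) (k : Fin 12) : Bool :=
  [Sum.inl (Sum.inl 0), Sum.inl (Sum.inl 1), Sum.inl (Sum.inr 0), Sum.inl (Sum.inr 1),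
    Sum.inr 0, Sum.inr 1].all fun a : I6 => ((∑ j, n j * coT a j) - coT a k) % 3 == 0

theorem sameCo_of_eq {n : Fin 12 → ℤ} {k : Fin 12} (h : co (comb n) = co (bL k)) :
    sameCo n k = true := by
  simp only [sameCo, List.all_eq_true, beq_iff_eq]
  intro a _
  have ha := congrFun h a
  rw [co_comb_apply, co_bL] at ha
  have h0 : (((∑ j, n j * coT a j) - coT a k : ℤ) : ZMod 3) = 0 := by
    push_cast
    rw [ha, sub_self]
  exact Int.emod_eq_zero_of_dvd ((ZMod.intCast_zmod_eq_zero_iff_dvd _ 3).1 h0)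

set_option maxHeartbeats 4000000 in
theorem short_same : ((List.range 378).all fun i => forceL (fun l => (List.finRange 12).all fun k =>
    (!sameCo (vals l) k || decide (∃ a, pw k a = vals l)) &&
      (!sameCo (fun j => -vals l j) k || decide (∃ a, pw k a = fun j => -vals l j))) (shortL i)) = true := by
  decide +kernel

theorem pw_checks : (∀ k j, ∑ l, pw k 2 l * aOm l j = pw k 0 j) ∧
    (∀ k : Fin 12, gram k (Fin.ofNat 12 (Data.par.getD k.val 0)) ≠ 0) ∧
    (∀ k : Fin 12, ∀ a b : Fin 3, a ≠ b → (∑ i, pw k a i * ∑ j, pw (Fin.ofNat 12 (Data.par.getD k.val 0)) b j *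
      gram j i) ≠ gram k (Fin.ofNat 12 (Data.par.getD k.val 0))) := by
  refine ⟨?_, ?_, ?_⟩ <;> decide +kernel

/-- The neighbour of a basis vector. -/
def parent (k : Fin 12) : Fin 12 := Fin.ofNat 12 (Data.par.getD k.val 0)

theorem parent_root : ∀ k, parent^[6] k = 0 := by decide +kernel

theorem const_of_parent {α : Type*} (f : Fin 12 → α) (h : ∀ k, f k = f (parent k)) (k : Fin 12) :
    f k = f 0 := by
  have e : ∀ n, f k = f (parent^[n] k) := by
    intro n
    induction n with
    | zero => rfl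
    | succ n ih => rw [ih, Function.iterate_succ_apply', ← h]
  rw [e 6, parent_root]

theorem comb_neg (n : Fin 12 → ℤ) : -comb n = comb fun j => -n j := by
  simp [comb, neg_smul, Finset.sum_neg_distrib]

theorem pw_zero (k : Fin 12) : comb (pw k 0) = bL k := by
  rw [← comb_single k]
  congr 1
  funext j
  simp [pw, Pi.single_apply]

theorem gOm_pow (k : Fin 12) (a : Fin 3) : ((gOm ^ a.val : cen) : Co0) • bL k = comb (pw k a) := by
  fin_cases a
  · simpa using (pw_zero k).symm
  · simpa [pw] using actsBy_gOm k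
  · rw [show ((gOm ^ (2 : ℕ) : cen) : Co0) = (gOm : Co0) * gOm from congrArg Subtype.val (pow_two gOm),
      mul_smul, actsBy_gOm k, actsBy_gOm.smul_comb]
    rfl

theorem gOm_cube (k : Fin 12) : ((gOm ^ 3 : cen) : Co0) • bL k = bL k := by
  rw [pow_succ', Subgroup.coe_mul, mul_smul,
    show ((gOm ^ (2 : ℕ) : cen) : Co0) • bL k = comb (pw k 2) from gOm_pow k 2,
    actsBy_gOm.smul_comb, ← pw_zero k]
  exact congrArg comb (funext fun j => pw_checks.1 k j)

theorem sqNorm_bL (k : Fin 12) : sqNorm ((bL k : leechLattice) : GolayPt → ℤ) = 32 := by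
  rw [sqNorm_eq_dot, ← eight_ip, ip_bL, show gram k k = 4 from
    (by decide +kernel : ∀ k, gram k k = 4) k]
  rfl

/-- Elements fixing the coordinates modulo three are powers of `ω` on the fixed lattice. -/
theorem exists_pow_of_trivial {c : cen} (h : ∀ k, co ((c : Co0) • bL k) = co (bL k)) :
    ∃ a : Fin 3, ∀ k, (c : Co0) • bL k = ((gOm ^ a.val : cen) : Co0) • bL k := by
  have key : ∀ k, ∃ a : Fin 3, (c : Co0) • bL k = comb (pw k a) := by
    intro k
    obtain ⟨i, hi, e⟩ := short_of_norm (fixed_smul c (k0_bL k))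
      ((sqNorm_smul _ _).trans (sqNorm_bL k))
    have hs := short_same
    simp only [List.all_eq_true, List.mem_range, forceL_eq, List.mem_finRange, true_implies, Bool.and_eq_true,
      Bool.or_eq_true, Bool.not_eq_true', decide_eq_true_eq] at hs
    simp only [shortV] at e
    rcases e with e | e
    · obtain ⟨a, ha⟩ := ((hs i hi k).1.resolve_left
        (by rw [sameCo_of_eq (by rw [← e]; exact h k)]; simp))
      exact ⟨a, by rw [e, ha]⟩
    · rw [comb_neg] at e
      obtain ⟨a, ha⟩ := ((hs i hi k).2.resolve_left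
        (by rw [sameCo_of_eq (by rw [← e]; exact h k)]; simp))
      exact ⟨a, by rw [e, ha]⟩
  choose a ha using key
  refine ⟨a 0, fun k => ?_⟩
  rw [ha, gOm_pow, const_of_parent a ?_ k]
  intro j
  by_contra hne
  refine pw_checks.2.2 j (a j) (a (parent j)) hne ?_
  have := ip_smul (c : Co0) (bL j) (bL (parent j))
  rw [ha j, ha (parent j), ip_bL, ip_comb_left] at this
  refine Eq.trans (Finset.sum_congr rfl fun i _ => ?_) this
  congr 1
  rw [ip_comm, ip_comb_left]
  exact Finset.sum_congr rfl fun l _ => by rw [ip_bL]; rfl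

theorem mem_powers_of_trivial {c : cen} (h : ∀ k, co ((c : Co0) • bL k) = co (bL k)) :
    ∃ i a : Fin 3, c = (⟨k0, k0_mem_cen⟩ : cen) ^ i.val * gOm ^ a.val := by
  obtain ⟨a, ha⟩ := exists_pow_of_trivial h
  have hd : ∀ k, ((c * (gOm ^ a.val)⁻¹ : cen) : Co0) • bL k = bL k := by
    intro k
    have hinv : ∀ b : cen, (∀ k, (b : Co0) • bL k = bL k) → ∀ k, ((b⁻¹ : cen) : Co0) • bL k = bL k :=
      fun b hb k => by rw [InvMemClass.coe_inv, inv_smul_eq_iff, hb]
    have e1 : ∀ k, (((gOm ^ 3) ^ a.val : cen) : Co0) • bL k = bL k := by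
      intro k
      induction a.val with
      | zero => simp
      | succ n ih => rw [pow_succ, Subgroup.coe_mul, mul_smul, gOm_cube, ih]
    have e2 : (gOm ^ a.val)⁻¹ = gOm ^ (2 * a.val) * ((gOm ^ 3) ^ a.val)⁻¹ := by
      rw [eq_mul_inv_iff_mul_eq, inv_mul_eq_iff_eq_mul, ← pow_mul, ← pow_add]
      congr 1
      omega
    rw [e2, ← mul_assoc, Subgroup.coe_mul, mul_smul, hinv _ e1 k]
    have e3 : ∀ n k, ((c * gOm ^ n : cen) : Co0) • bL k = ((gOm ^ (n + a.val) : cen) : Co0) • bL k := by
      intro n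
      induction n with
      | zero => intro k; simpa using ha k
      | succ n ih =>
        intro k
        have hg : ∀ x : cen, ((x * gOm : cen) : Co0) • bL k =
            ∑ j, aOm k j • ((x : Co0) • bL j) := fun x => by
          rw [Subgroup.coe_mul, mul_smul, actsBy_gOm k, comb, smul_sum']
          exact Finset.sum_congr rfl fun j _ => smul_zsmul' _ _ _
        rw [pow_succ, ← mul_assoc, hg, show n + 1 + a.val = n + a.val + 1 by omega, pow_succ, hg]
        exact Finset.sum_congr rfl fun j _ => by rw [ih j]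
    rw [e3, show 2 * a.val + a.val = 3 * a.val by ring, pow_mul, e1]
  obtain ⟨i, hi⟩ := Subgroup.mem_zpowers_iff.1 (mem_zpowers_of_fixes hd)
  obtain ⟨n, hn⟩ : ∃ n : Fin 3, k0 ^ i = k0 ^ n.val := by
    refine ⟨⟨(i % 3).toNat, by omega⟩, ?_⟩
    rw [← zpow_natCast, Int.toNat_of_nonneg (Int.emod_nonneg i (by norm_num))]
    conv_lhs => rw [← Int.emod_add_mul_ediv i 3]
    rw [zpow_add, zpow_mul, show k0 ^ (3 : ℤ) = 1 from (zpow_natCast k0 3).trans k0_pow_three,
      one_zpow, mul_one]
  refine ⟨n, a, ?_⟩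
  rw [show c = c * (gOm ^ a.val)⁻¹ * gOm ^ a.val from (inv_mul_cancel_right c _).symm]
  congr 1
  exact Subtype.ext (by rw [SubgroupClass.coe_pow]; exact hi.symm.trans hn)

/-! ### Trivial modulo two -/

theorem sign_of_trivial {c : cen} (h : ∀ s, act c s = s) :
    (∀ k, (c : Co0) • bL k = bL k) ∨ ∀ k, (c : Co0) • bL k = -bL k := by
  have key : ∀ k, ∃ e : Bool, (c : Co0) • bL k = if e then -bL k else bL k := by
    intro k
    have hc : Cong (bL k) ((c : Co0) • bL k) := by
      refine cong_of_cls (cong_k0_fixed (k0_bL k)) (cong_k0_fixed (fixed_smul c (k0_bL k))) ?_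
      rw [← act_cls c (cong_k0_fixed (k0_bL k)), h]
    have h1 := sqNorm_bL k
    have h2 := (sqNorm_smul (c : Co0) (bL k)).trans h1
    rcases (congr_short hc (by omega) (by omega) (by omega) (by omega)).2 (by omega) with r | r
    · exact ⟨false, r⟩
    · exact ⟨true, r⟩
  choose e he using key
  have hconst : ∀ k, e k = e 0 := fun k => const_of_parent e (fun j => by
    have h3 := ip_smul (c : Co0) (bL j) (bL (parent j))
    have hn : ∀ v w : leechLattice, ip (-v) w = -ip v w := fun v w => map_neg (ipHom w) v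
    have hn' : ∀ v w : leechLattice, ip v (-w) = -ip v w := fun v w => by rw [ip_comm, hn, ip_comm]
    have h0 : gram j (parent j) ≠ 0 := pw_checks.2.1 j
    rw [he, he, ip_bL] at h3
    revert h3
    cases e j <;> cases e (parent j) <;> simp [hn, hn', ip_bL] <;> omega) k
  cases h0 : e 0
  · exact Or.inl fun k => by rw [he k, hconst k, h0]; rfl
  · exact Or.inr fun k => by rw [he k, hconst k, h0]; rfl

/-- The kernel of the action on classes. -/
theorem eq_of_trivial {c : cen} (h : ∀ s, act c s = s) :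
    ∃ i : ℤ, (c : Co0) = k0 ^ i ∨ (c : Co0) = negCo * k0 ^ i := by
  rcases sign_of_trivial h with r | r
  · obtain ⟨i, hi⟩ := Subgroup.mem_zpowers_iff.1 (mem_zpowers_of_fixes r)
    exact ⟨i, Or.inl hi.symm⟩
  · have hd : ∀ k, ((⟨negCo, negCo_mem_cen⟩ * c : cen) : Co0) • bL k = bL k := fun k => by
      rw [Subgroup.coe_mul, mul_smul, r, negCo_smul, neg_neg]
    obtain ⟨i, hi⟩ := Subgroup.mem_zpowers_iff.1 (mem_zpowers_of_fixes hd)
    refine ⟨i, Or.inr ?_⟩
    rw [hi, Subgroup.coe_mul, ← mul_assoc, signs_sq negCo_mem_signs, one_mul]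

end Cfsg.Agent.Lib.MonsterType.Fischer
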