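import Cfsg.Agent.Lib.MonsterType.OddType.Align
import Cfsg.Agent.Lib.MonsterType.Fischer.Quot

/-!
The centraliser of a 3-central subgroup of order 3 of the joint centraliser, modulo it, is of large
Fischer type.
-/

set_option autoImplicit false

namespace Cfsg.Agent.Lib.MonsterType.Fischer

open Cfsg
open Cfsg.Agent.Lib
open Cfsg.Agent.Lib.Leech
open Cfsg.Agent.Lib.LargeExtra
open Cfsg.Agent.Lib.MonsterType.OddType (cross₁ toCross₁ toCross₁_surjective perm₁ perm₁_spec
  perm₁_surjective perm₁_ker_sq card_perm₁_ker exists_chi)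

theorem sigma_ne_one : sigma ≠ 1 := by
  obtain ⟨x, hx⟩ := perm_checks.2.2.2.1
  exact fun e => hx (by rw [← sigma_apply, e]; rfl)

section

variable {G : Type*} [Group G] [Finite G] {z : G} {R : Subgroup G}

/-- Elements of order `p` over the monomial element, from a conjugacy in `Co1`. -/
theorem exists_aligned (D' : MData z R) {Y : Subgroup G} {x : G}
    (hY : Y = Subgroup.zpowers x) (hxz : x ∈ Subgroup.centralizer ({z} : Set G)) (hxp : x ^ 3 = 1)
    (hx1 : D'.π ⟨x, hxz⟩ ≠ 1) {m : Co0} {i : ℕ}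
    (hconj : (QuotientGroup.mk m : Spor.Co1) * D'.π ⟨x, hxz⟩ * (QuotientGroup.mk m)⁻¹ =
      QuotientGroup.mk k0 ^ i) :
    ∃ (D'' : MData z R) (b : ↥(Subgroup.centralizer ({z} : Set G))),
      b ^ 3 = 1 ∧ D''.π b = QuotientGroup.mk k0 ∧ Y = Subgroup.zpowers (b : G) := by
  set c : ↥(Subgroup.centralizer ({z} : Set G)) := ⟨x, hxz⟩ with hc
  have hcp : c ^ 3 = 1 := Subtype.ext (by simpa [hc] using hxp)
  have hkp : (QuotientGroup.mk k0 : Spor.Co1) ^ 3 = 1 := by
    rw [← QuotientGroup.mk_pow, k0_pow_three, QuotientGroup.mk_one]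
  have hi : i.Coprime 3 := by
    refine (Nat.prime_three.coprime_iff_not_dvd.2 fun hd => hx1 ?_).symm
    obtain ⟨q, rfl⟩ := hd
    rw [pow_mul, hkp, one_pow, mul_inv_eq_one, mul_eq_left] at hconj
    exact hconj
  obtain ⟨j, hj⟩ := Nat.exists_mul_mod_eq_one_of_coprime hi Nat.prime_three.one_lt
  have hj' : i * j % 3 = 1 := hj.2
  refine ⟨D'.recoord m, c ^ j, by rw [← pow_mul, mul_comm, pow_mul, hcp, one_pow], ?_, ?_⟩
  · show MulAut.conj (QuotientGroup.mk m : Spor.Co1) (D'.π (c ^ j)) = _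
    rw [map_pow, map_pow, MulAut.conj_apply, hconj, ← pow_mul, ← Nat.mod_add_div (i * j) 3, hj',
      pow_add, pow_one, pow_mul, hkp, one_pow, mul_one]
  · rw [hY, SubgroupClass.coe_pow]
    refine le_antisymm (Subgroup.zpowers_le.2 ?_) (Subgroup.zpowers_le.2 (Subgroup.npow_mem_zpowers x j))
    have e : (x ^ j) ^ i = x := by
      rw [← pow_mul, mul_comm, ← Nat.mod_add_div (i * j) 3, hj', pow_add, pow_one, pow_mul, hxp,
        one_pow, mul_one]
    exact Subgroup.mem_zpowers_iff.2 ⟨i, by rw [zpow_natCast]; exact e⟩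

end

theorem card_centralizer_subtype {l : List ℕ} {k : Equiv.Perm GolayPt} (hk : k ∈ M24) {τ : M24}
    (hτ : k * Golay.toPerm l * k⁻¹ = (τ : Equiv.Perm GolayPt)) :
    Nat.card (Subgroup.centralizer ({τ} : Set M24)) = Nat.card (Golay.Classes.centM24 l) := by
  rw [← Golay.Classes.card_cent_conj hk, hτ]
  exact Nat.card_congr
    { toFun := fun c => ⟨c.1.1, c.1.2,
        congrArg Subtype.val (Subgroup.mem_centralizer_singleton_iff.1 c.2)⟩
      invFun := fun c => ⟨⟨c.1, c.2.1⟩, Subgroup.mem_centralizer_singleton_iff.2 (Subtype.ext c.2.2)⟩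
      left_inv := fun _ => rfl
      right_inv := fun _ => rfl }

theorem isFischer {G : Type*} [Group G] [Finite G] {z : G} {R : Subgroup G} (D : MData z R) {g : G}
    (hgR : g * z * g⁻¹ ∈ R) (hne : g * z * g⁻¹ ≠ z) (Y : Subgroup G)
    (hY : Y ≤ Subgroup.centralizer ({z, g * z * g⁻¹} : Set G)) (hY3 : Nat.card Y = 3)
    (hc : ∃ P : Sylow 3 ↥(Subgroup.centralizer ({z, g * z * g⁻¹} : Set G)),
      Y.subgroupOf (Subgroup.centralizer ({z, g * z * g⁻¹} : Set G)) ≤
        (Subgroup.center ↥(P : Subgroup ↥(Subgroup.centralizer ({z, g * z * g⁻¹} : Set G)))).map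
          (P : Subgroup ↥(Subgroup.centralizer ({z, g * z * g⁻¹} : Set G))).subtype)
    [hn : (Y.subgroupOf (Subgroup.centralizer (Y : Set G))).Normal] :
    IsOfLargeFischerType (↥(Subgroup.centralizer (Y : Set G)) ⧸
      Y.subgroupOf (Subgroup.centralizer (Y : Set G))) := by
  haveI : Fact (Nat.Prime 3) := ⟨Nat.prime_three⟩
  haveI := finite_co0
  have hX : Subgroup.centralizer ({z, g * z * g⁻¹} : Set G) =
      Subgroup.centralizer ({z} : Set G) ⊓ Subgroup.centralizer ({g * z * g⁻¹} : Set G) := by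
    ext x
    simp [Subgroup.mem_centralizer_iff, Subgroup.mem_inf]
  rw [hX] at hY hc
  set X := Subgroup.centralizer ({z} : Set G) ⊓ Subgroup.centralizer ({g * z * g⁻¹} : Set G)
  obtain ⟨⟨x, hxY⟩, hxo⟩ := exists_prime_orderOf_dvd_card' (G := Y) 3 (by rw [hY3])
  replace hxo : orderOf x = 3 := by
    rw [← hxo]; exact orderOf_injective Y.subtype Y.subtype_injective ⟨x, hxY⟩
  have hYx : Y = Subgroup.zpowers x :=
    (Subgroup.eq_of_le_of_card_ge (Subgroup.zpowers_le.2 hxY) (by rw [hY3, Nat.card_zpowers, hxo])).symm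
  have hx3 : x ^ 3 = 1 := by rw [show 3 = 3 from rfl, ← hxo, pow_orderOf_eq_one]
  have h64 := mem_type64 D (setting_of_conj D.good hgR hne) (D.transport g).card
  obtain ⟨g₀, hl⟩ := exists_recoord D h64
  obtain ⟨χ, hχ, hspec⟩ := exists_chi (D.recoord g₀) hgR hne hl
  have hχ1 : ∀ c : X, χ c = 1 → (c : G) ∈ R := fun c e =>
    ((D.recoord g₀).π_eq_one (Subgroup.inclusion inf_le_left c)).1
      ((hspec c).symm.trans (congrArg Subtype.val e))
  set y : X := ⟨x, hY hxY⟩ with hy
  have hy3 : y ^ 3 = 1 := Subtype.ext (by simpa [hy, ← hxo] using pow_orderOf_eq_one x)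
  have hβ1 : (D.recoord g₀).π ⟨x, (hY hxY).1⟩ ≠ 1 := fun e => by
    have h1 : x = 1 := eq_one_of_pow_eq_one D (by norm_num : (3 : ℕ) ≠ 2)
      (((D.recoord g₀).π_eq_one _).1 e) (by rw [← hxo, pow_orderOf_eq_one])
    rw [h1, orderOf_one] at hxo
    norm_num at hxo
  set ω : X →* M24 := perm₁.comp χ with hω
  have hωs : Function.Surjective ω := perm₁_surjective.comp hχ
  have hker : IsPGroup 2 ω.ker := by
    rintro ⟨c, hc⟩
    have h2 : χ (c * c) = 1 := by rw [map_mul]; exact perm₁_ker_sq hc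
    have hR := hχ1 _ h2
    refine ⟨3, Subtype.ext (Subtype.ext ?_)⟩
    have hz := D.good.x_sq
    show (c : G) ^ 2 ^ 3 = 1
    rw [show (c : G) ^ 2 ^ 3 = ((c * c : X) : G) * ((c * c : X) : G) * (((c * c : X) : G) * ((c * c : X) : G)) by
      simp only [Subgroup.coe_mul, show (2 : ℕ) ^ 3 = 8 by norm_num, pow_succ, pow_zero, one_mul,
        mul_assoc]]
    rcases D.good.sq_cases hR with r | r <;> rw [r]
    · rw [one_mul]
    · exact hz
  have hω1 : ω y ≠ 1 := by
    intro e
    obtain ⟨f, hf⟩ := hker ⟨y, e⟩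
    have h1 : y ^ 2 ^ f = 1 := by simpa using congrArg Subtype.val hf
    have := pow_gcd_eq_one.2 ⟨hy3, h1⟩
    rw [show Nat.gcd 3 (2 ^ f) = 1 from Nat.Coprime.pow_right f (by norm_num), pow_one] at this
    exact hβ1 (by rw [show (⟨x, (hY hxY).1⟩ : ↥(Subgroup.centralizer ({z} : Set G))) = 1 from
      Subtype.ext (congrArg Subtype.val this : x = 1), map_one])
  have hωo : orderOf ((ω y : M24) : Equiv.Perm GolayPt) = 3 :=
    orderOf_eq_prime (by
      rw [← SubgroupClass.coe_pow, ← map_pow, hy3, map_one, OneMemClass.coe_one])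
      fun e => hω1 (Subtype.ext e)
  obtain ⟨r, hr, κ, hκ, hκτ⟩ := Golay.Classes.classify_three (ω y).2 hωo
  simp only [List.mem_cons, List.not_mem_nil, or_false] at hr
  rcases hr with rfl | rfl
  rotate_left
  · exfalso
    obtain ⟨P, hP⟩ := hc
    have hyY : y ∈ Y.subgroupOf X := hxY
    obtain ⟨⟨q, hq⟩, hqc, hqy⟩ := hP hyY
    obtain rfl : q = y := hqy
    have hle : (P.mapSurjective hωs : Subgroup M24) ≤ Subgroup.centralizer ({ω y} : Set M24) := by
      rintro _ ⟨c, hc', rfl⟩
      refine Subgroup.mem_centralizer_singleton_iff.2 ?_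
      rw [← map_mul, ← map_mul]
      exact congrArg ω (congrArg Subtype.val (Subgroup.mem_center_iff.1 hqc ⟨c, hc'⟩))
    have hd := Subgroup.card_dvd_of_le hle
    rw [(P.mapSurjective hωs).card_eq_multiplicity, card_centralizer_subtype hκ hκτ,
      Golay.Classes.card_centM24 Golay.Classes.cent3f0_ok, Golay.card_M24,
      show Golay.ClassData.wit3f0.length * Golay.ClassData.cent3f0.length = 504 by decide +kernel,
      show (244823040 : ℕ).factorization 3 = 3 by
        rw [show (244823040 : ℕ) = 3 ^ 3 * 9067520 by norm_num,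
          Nat.factorization_mul (by norm_num) (by norm_num), Finsupp.add_apply,
          Nat.prime_three.factorization_pow, Finsupp.single_eq_same,
          Nat.factorization_eq_zero_of_not_dvd (by norm_num)]] at hd
    norm_num at hd
  · have hperm : sigma = Golay.toPerm Golay.ClassData.rep3f6 := rfl
    set κ' : M24 := ⟨κ⁻¹, inv_mem hκ⟩
    obtain ⟨m₁, hm₁⟩ := perm₁_surjective κ'
    set k : cross₁ := toCross₁ ⟨_, monoCo_mem_crossStab sigma sigma_mem 0 (zero_mem _)⟩
    have hk : perm₁ k = ⟨sigma, sigma_mem⟩ := by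
      rw [perm₁_spec, permPart_monoCo]
    have hσ : perm₁ (m₁ * χ y * m₁⁻¹) = ⟨sigma, sigma_mem⟩ := by
      rw [map_mul, map_mul, map_inv, hm₁]
      refine Subtype.ext ?_
      show κ⁻¹ * ((ω y : M24) : Equiv.Perm GolayPt) * κ⁻¹⁻¹ = sigma
      rw [← hκτ, hperm]
      group
    set K : Subgroup cross₁ := (Subgroup.zpowers (perm₁ k)).comap perm₁
    have hordk : orderOf (perm₁ k) = 3 := by
      rw [hk]
      refine orderOf_eq_prime (Subtype.ext ?_) fun e => sigma_ne_one (congrArg Subtype.val e)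
      exact sigma_pow_three
    have hcardK : Nat.card K = 2 ^ 11 * 3 := by
      let f : K →* M24 := perm₁.comp K.subtype
      have hr : f.range = Subgroup.zpowers (perm₁ k) := by
        rw [MonoidHom.range_comp, Subgroup.range_subtype,
          Subgroup.map_comap_eq_self_of_surjective perm₁_surjective]
      have hkf : Nat.card f.ker = 2 ^ 11 := by
        rw [← card_perm₁_ker]
        exact Nat.card_congr
          { toFun := fun u => ⟨u.1.1, u.2⟩
            invFun := fun u => ⟨⟨u.1, by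
              show perm₁ u.1 ∈ Subgroup.zpowers (perm₁ k)
              rw [show perm₁ u.1 = 1 from u.2]; exact one_mem _⟩, u.2⟩
            left_inv := fun _ => rfl
            right_inv := fun _ => rfl }
      rw [← Subgroup.card_mul_index f.ker, Subgroup.index_ker, hr, hkf, Nat.card_zpowers, hordk]
    have hko : orderOf k = 3 := by
      refine orderOf_eq_prime (Subtype.ext ?_) fun e => mk_k0_ne_one ?_
      · show (QuotientGroup.mk k0 : Spor.Co1) ^ 3 = 1
        rw [← QuotientGroup.mk_pow]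
        exact congrArg _ k0_pow_three
      · exact congrArg Subtype.val e
    have hβo : orderOf (m₁ * χ y * m₁⁻¹) = 3 := by
      refine orderOf_eq_prime (by rw [conj_pow, ← map_pow, hy3, map_one, mul_one, mul_inv_cancel]) fun e => ?_
      rw [e, map_one] at hσ
      exact sigma_ne_one (congrArg Subtype.val hσ).symm
    obtain ⟨m₂, -, i, hi⟩ := exists_conj_pow (p := 3) (H := K) (by
        rw [hcardK, Nat.factorization_mul (by norm_num) (by norm_num), Finsupp.add_apply,
          Nat.prime_three.factorization_self, Nat.factorization_eq_zero_of_not_dvd (by norm_num)])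
      (show m₁ * χ y * m₁⁻¹ ∈ K by
        show perm₁ _ ∈ Subgroup.zpowers (perm₁ k)
        rw [hσ, ← hk]; exact Subgroup.mem_zpowers _)
      (show k ∈ K from Subgroup.mem_zpowers _) hβo hko
    obtain ⟨m, hm⟩ := toCross₁_surjective (m₂ * m₁)
    have hconj : (QuotientGroup.mk (m : Co0) : Spor.Co1) * (D.recoord g₀).π ⟨x, (hY hxY).1⟩ *
        (QuotientGroup.mk (m : Co0))⁻¹ = QuotientGroup.mk k0 ^ i := by
      have e := congrArg Subtype.val hi
      rw [show (QuotientGroup.mk (m : Co0) : Spor.Co1) = ((m₂ * m₁ : cross₁) : Spor.Co1) from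
        congrArg Subtype.val hm,
        show (D.recoord g₀).π ⟨x, (hY hxY).1⟩ = (χ y : Spor.Co1) from (hspec y).symm]
      simp only [Subgroup.coe_mul, Subgroup.coe_inv, SubgroupClass.coe_pow, _root_.mul_inv_rev] at e ⊢
      rw [show (QuotientGroup.mk k0 : Spor.Co1) = (k : Spor.Co1) from rfl, ← e]
      group
    obtain ⟨D', b, hbp, hπ, hYb⟩ := exists_aligned (D.recoord g₀) hYx (hY hxY).1 hx3 hβ1 hconj
    have hbs : (b : G) * (g * z * g⁻¹) = g * z * g⁻¹ * b :=
      Subgroup.mem_centralizer_singleton_iff.1 (hY (hYb ▸ Subgroup.mem_zpowers (b : G))).2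
    subst hYb
    exact isLargeFischer D' hbp hπ hgR hne hbs

end Cfsg.Agent.Lib.MonsterType.Fischer
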