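import Cfsg.Agent.Lib.MonsterType.Fischer.Gens
import Cfsg.Agent.Lib.MonsterType.Fischer.Bits

/-!
Three orbits on the non-zero classes, the vectors of squared length 32 in the fixed lattice and the
order of the centraliser.
-/

set_option autoImplicit false

namespace Cfsg.Agent.Lib.MonsterType.Fischer

open Cfsg
open Cfsg.Agent.Lib
open Cfsg.Agent.Lib.Leech
open Bits

/-- An entry of a tree. -/
def entry (T : List (ℕ × ℕ × ℕ)) (i : ℕ) : ℕ × ℕ × ℕ := T.getD i (0, 0, 0)

/-- The two generators. -/
noncomputable def gen (g : ℕ) : cen := if g = 0 then gX else gP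

/-- Their matrices. -/
def genA (g : ℕ) : Fin 12 → Fin 12 → ℤ := if g = 0 then aX else aP

theorem actsBy_gen (g : ℕ) : ActsBy (gen g) (genA g) := by
  rcases eq_or_ne g 0 with e | e
  · simp [gen, genA, e, actsBy_gX]
  · simp [gen, genA, e, actsBy_gP]

theorem genCodes_ok : ∀ g : Fin 2, (genCodes.getD g.val []).map ofBits =
    (List.finRange 12).map fun k : Fin 12 => fun j => ((genA g.val k j : ℤ) : ZMod 2) := by
  decide +kernel

theorem act_gen_ofBits {g : ℕ} (hg : g < 2) (n : ℕ) :
    act (gen g) (ofBits n) = ofBits (selXor (genCodes.getD g []) n) :=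
  map_ofBits (actHom (gen g)) _ ((genCodes_ok ⟨g, hg⟩).trans
    (List.map_congr_left fun k _ => ((actsBy_gen g).act_single k).symm)) n

theorem tree_reach {T : List (ℕ × ℕ × ℕ)} (h : treeOk T = true) :
    ∀ i < T.length, ∃ c : cen, ofBits (entry T i).1 = act c (ofBits (entry T 0).1) := by
  refine treeOk_reach (R := fun n => ∃ c : cen, ofBits n = act c (ofBits (entry T 0).1)) ?_ h
    ⟨1, (act_one _).symm⟩
  rintro g hg n ⟨c, hc⟩
  exact ⟨gen g * c, by rw [← act_gen_ofBits hg, hc, act_mul]⟩

/-- The roots, as coordinates. -/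
def root (r : ℕ) : Fin 12 → ℤ := vals (Data.roots.getD r [])

theorem root_checks : (∀ k, ((root 1 k : ℤ) : ZMod 2) = ofBits 3222 k) ∧
    (∀ k, ((root 2 k : ℤ) : ZMod 2) = ofBits 3072 k) ∧
    dotInt (combF (root 1)) (combF (root 1)) = 64 ∧
    dotInt (combF (root 2)) (combF (root 2)) = 48 ∧
    dotInt (bv 0) (bv 0) = 32 := by
  refine ⟨?_, ?_, ?_, ?_, ?_⟩ <;> decide +kernel

theorem pt8_checks : ∀ k : Fin 12,
    ((gv k none + gv k (sF none) + gv k (sF (sF none)) : ℤ) : ZMod 2) = ofBits 3222 k := by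
  decide +kernel

theorem sqNorm_eq_dot (v : GolayPt → ℤ) : sqNorm v = dotInt v v := by
  simp only [sqNorm, dotInt, pow_two]

theorem sqNorm_comb_root {r : ℕ} {N : ℤ} (h : dotInt (combF (root r)) (combF (root r)) = N) (c : cen) :
    sqNorm (((c : Co0) • comb (root r) : leechLattice) : GolayPt → ℤ) = N := by
  rw [sqNorm_smul, coe_comb, sqNorm_eq_dot, h]

/-- The class of `8 e∞`. -/
noncomputable def s1 : Fin 12 → ZMod 2 := cls (pt8 none)

theorem k0_pt8 (i : GolayPt) : k0 • pt8 i = pt8 (sigma i) := by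
  rw [k0, monoCo_smul_pt8]
  simp

theorem cong_k0_pt8 : Cong (k0 • pt8 none) (pt8 none) := by rw [k0_pt8]; exact cong_pt8 _

theorem ip_pt8 (i : GolayPt) (k : Fin 12) : ip (pt8 i) (gL k) = gv k i := by
  rw [ip, show ((pt8 i : leechLattice) : GolayPt → ℤ) = vec8 i from rfl]
  rw [show dotInt (vec8 i) ((gL k : leechLattice) : GolayPt → ℤ) = 8 * gv k i from ?_]
  · omega
  · simp only [dotInt, vec8, gL]
    rw [Finset.sum_eq_single i]
    · rw [Pi.single_eq_same]
    · intro j _ hj; rw [Pi.single_eq_of_ne hj, zero_mul]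
    · simp

theorem s1_eq : s1 = ofBits 3222 := by
  funext k
  rw [← pt8_checks k, s1, cls, avg, nvec_add, nvec_add, k0_pt8, k0_pt8]
  simp only [Pi.add_apply, nvec, ip_pt8, sigma_apply]

/-- The parts of the list of integer vectors. -/
def shortParts : List (List (List ℤ)) :=
  [Data.short_0, Data.short_1, Data.short_2, Data.short_3, Data.short_4, Data.short_5]

/-- The integer vectors parallel to the first orbit, as lists. -/
def shortL (i : ℕ) : List ℤ := (shortParts.getD (i / 64) []).getD (i % 64) []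

/-- The integer vectors parallel to the first orbit. -/
def shortV (i : ℕ) : Fin 12 → ℤ := vals (shortL i)

/-- The position of the parent. -/
def parentIdx (i : ℕ) : ℕ := Data.par0.getD i 0

/-- Evaluate a predicate at a list after exposing its head. -/
def forceL (P : List ℤ → Bool) : List ℤ → Bool
  | [] => P []
  | a :: t => P (a :: t)

theorem forceL_eq (P : List ℤ → Bool) (l : List ℤ) : forceL P l = P l := by cases l <;> rfl

set_option maxHeartbeats 1000000 in
theorem short_checks :
    ((List.range 378).all fun i => i == 0 || (decide (parentIdx i < i) &&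
      decide ((entry Data.tree0 i).2.1 < 2) &&
      forceL (fun l => forceL (fun p => decide (∀ j : Fin 12, vals l j =
        ∑ k : Fin 12, vals p k * genA (entry Data.tree0 i).2.1 k j)) (shortL (parentIdx i)))
        (shortL i))) = true ∧
    ((List.range 378).all fun i => forceL (fun l => decide (∀ j : Fin 12,
      ((vals l j : ℤ) : ZMod 2) = ofBits (entry Data.tree0 i).1 j)) (shortL i)) = true ∧
    ∀ j : Fin 12, shortV 0 j = (Pi.single 0 1 : Fin 12 → ℤ) j := by
  refine ⟨?_, ?_, ?_⟩ <;> decide +kernel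

theorem short_reach : ∀ i < 378, ∃ c : cen, comb (shortV i) = (c : Co0) • bL 0 := by
  intro i
  induction i using Nat.strongRecOn with
  | _ i ih =>
    intro hi
    rcases eq_or_ne i 0 with rfl | h0
    · exact ⟨1, by rw [OneMemClass.coe_one, one_smul, show shortV 0 = Pi.single 0 1 from
        funext short_checks.2.2, comb_single]⟩
    · have h := short_checks.1
      simp only [List.all_eq_true, List.mem_range, Bool.or_eq_true, Bool.and_eq_true, beq_iff_eq,
        forceL_eq, decide_eq_true_eq] at h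
      obtain ⟨⟨h1, -⟩, h2⟩ := (h i hi).resolve_left h0
      obtain ⟨c, hc⟩ := ih _ h1 (h1.trans hi)
      refine ⟨gen (entry Data.tree0 i).2.1 * c, ?_⟩
      rw [Subgroup.coe_mul, mul_smul, ← hc, (actsBy_gen _).smul_comb]
      exact congrArg comb (funext h2)

theorem cls_short {i : ℕ} (hi : i < 378) : cls (comb (shortV i)) = ofBits (entry Data.tree0 i).1 := by
  have h := short_checks.2.1
  simp only [List.all_eq_true, List.mem_range, forceL_eq, decide_eq_true_eq] at h
  rw [cls_comb]
  exact funext (h i hi)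

theorem sqNorm_short {i : ℕ} (hi : i < 378) :
    sqNorm ((comb (shortV i) : leechLattice) : GolayPt → ℤ) = 32 := by
  obtain ⟨c, hc⟩ := short_reach i hi
  rw [hc, sqNorm_smul, sqNorm_eq_dot]
  exact root_checks.2.2.2.2

/-- The orbit of the class of a cross, as a set. -/
def omega : Set (Fin 12 → ZMod 2) := {s | (mask Data.tree1).testBit (code s) = true}

theorem reach_omega {s : Fin 12 → ZMod 2} (h : s ∈ omega) : ∃ c : cen, s = act c s1 := by
  obtain ⟨i, hi, e⟩ := testBit_mask.1 h
  obtain ⟨c, hc⟩ := tree_reach tree1_ok i hi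
  refine ⟨c, ?_⟩
  rw [show (entry Data.tree1 0).1 = 3222 from tree_sizes.2.2.2.2.1, ← s1_eq,
    show (entry Data.tree1 i).1 = code s from e, ofBits_code] at hc
  exact hc

/-- The three orbits cover the non-zero classes. -/
theorem class_cases {s : Fin 12 → ZMod 2} (hs : s ≠ 0) :
    (∃ i < 378, s = cls (comb (shortV i))) ∨ s ∈ omega ∨
      ∃ c : cen, s = act c (cls (comb (root 2))) := by
  have h1 : code s ≠ 0 := fun e => hs (by rw [← ofBits_code s, e, ofBits_zero])
  have hb : ((2 : ℕ) ^ 4096 - 2).testBit (code s) = true := by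
    rw [show (2 : ℕ) ^ 4096 - 2 = 2 * (2 ^ 4095 - 1) by
      rw [show (4096 : ℕ) = 4095 + 1 from rfl, pow_succ]; omega]
    obtain ⟨m, hm⟩ := Nat.exists_eq_succ_of_ne_zero h1
    have hlt := code_lt s
    rw [hm, Nat.testBit_succ, Nat.mul_div_cancel_left _ (by norm_num : 0 < 2),
      Nat.testBit_two_pow_sub_one, decide_eq_true_iff]
    omega
  rw [← cover, Nat.testBit_or, Nat.testBit_or, Bool.or_eq_true, Bool.or_eq_true] at hb
  rcases hb with r | r | r
  · left
    obtain ⟨i, hi, e⟩ := testBit_mask.1 r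
    rw [tree_sizes.1] at hi
    exact ⟨i, hi, by rw [cls_short hi, show (entry Data.tree0 i).1 = code s from e, ofBits_code]⟩
  · exact Or.inr (Or.inl r)
  · right; right
    obtain ⟨i, hi, e⟩ := testBit_mask.1 r
    obtain ⟨c, hc⟩ := tree_reach tree2_ok i hi
    refine ⟨c, ?_⟩
    rw [cls_comb, show (fun k => ((root 2 k : ℤ) : ZMod 2)) = ofBits 3072 from funext root_checks.2.1]
    rw [show (entry Data.tree2 0).1 = 3072 from tree_sizes.2.2.2.2.2,
      show (entry Data.tree2 i).1 = code s from e, ofBits_code] at hc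
    exact hc

theorem congr_short {v w : leechLattice} (h : Cong v w) (hv0 : sqNorm (v : GolayPt → ℤ) ≠ 0)
    (hw0 : sqNorm (w : GolayPt → ℤ) ≠ 0) (hv : sqNorm (v : GolayPt → ℤ) ≤ 64)
    (hw : sqNorm (w : GolayPt → ℤ) ≤ 64) :
    sqNorm (v : GolayPt → ℤ) = sqNorm (w : GolayPt → ℤ) ∧
      (sqNorm (v : GolayPt → ℤ) < 64 → w = v ∨ w = -v) := by
  obtain ⟨x, hx⟩ := h
  have hd : (v : GolayPt → ℤ) - (w : GolayPt → ℤ) = (2 : ℕ) • (x : GolayPt → ℤ) := by
    rw [hx, AddSubgroup.coe_add, AddSubgroup.coe_add, two_nsmul]; abel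
  obtain ⟨h1, h2⟩ := S5551.result _ _ v.2 w.2 (fun e => hv0 (by rw [e, Leech.sqNorm_zero]))
    (fun e => hw0 (by rw [e, Leech.sqNorm_zero])) hv hw ⟨_, x.2, hd⟩
  exact ⟨h1, fun h => (h2 h).imp (fun e => Subtype.ext e) (fun e => Subtype.ext e)⟩

theorem not_cong_zero {v : leechLattice} (h0 : sqNorm (v : GolayPt → ℤ) ≠ 0)
    (hv : sqNorm (v : GolayPt → ℤ) ≤ 64) : ¬ Cong v 0 := by
  rintro ⟨x, hx⟩
  rw [zero_add] at hx
  have hd : (v : GolayPt → ℤ) = (2 : ℕ) • (x : GolayPt → ℤ) := by
    rw [hx, AddSubgroup.coe_add, two_nsmul]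
  rw [hd, S5551.sqNorm_two_smul] at h0 hv
  have := Leech.sqNorm_min x.2 fun e => h0 (by rw [e, Leech.sqNorm_zero, mul_zero])
  omega

theorem rep_zero : rep 0 = 0 := by simp [rep, comb]

theorem cong_zero_of_cls {v : leechLattice} (hv : Cong (k0 • v) v) (e : cls v = 0) : Cong v 0 := by
  have := cong_rep hv
  rwa [e, rep_zero] at this

/-- The classes of the images of the cross lie in the orbit. -/
theorem act_s1_mem (c : cen) : act c s1 ∈ omega := by
  have hk : Cong (k0 • ((c : Co0) • pt8 none)) ((c : Co0) • pt8 none) := by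
    rw [← mul_smul, ← mem_cen_iff.1 c.2, mul_smul]
    exact cong_k0_pt8.smul _
  have hn : sqNorm (((c : Co0) • pt8 none : leechLattice) : GolayPt → ℤ) = 64 :=
    (sqNorm_smul _ _).trans (sqNorm_vec8 none)
  rw [s1, act_cls c cong_k0_pt8]
  by_cases h0 : cls ((c : Co0) • pt8 none) = 0
  · exact (not_cong_zero (by omega) (by omega) (cong_zero_of_cls hk h0)).elim
  rcases class_cases h0 with ⟨i, hi, e⟩ | r | ⟨d, e⟩
  · have hs := sqNorm_short hi
    have := (congr_short (cong_of_cls hk (cong_k0_fixed (k0_comb _)) e) (by omega) (by omega)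
      (by omega) (by omega)).1
    omega
  · exact r
  · have hs := sqNorm_comb_root (r := 2) root_checks.2.2.2.1 d
    rw [act_cls d (cong_k0_fixed (k0_comb _))] at e
    have := (congr_short (cong_of_cls hk (cong_k0_fixed (fixed_smul d (k0_comb _))) e) (by omega)
      (by omega) (by omega) (by omega)).1
    omega

/-- The vectors of squared length 32 of the fixed lattice. -/
theorem short_of_norm {v : leechLattice} (hv : k0 • v = v) (hn : sqNorm (v : GolayPt → ℤ) = 32) :
    ∃ i < 378, v = comb (shortV i) ∨ v = -comb (shortV i) := by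
  have hk := cong_k0_fixed hv
  by_cases h0 : cls v = 0
  · exact (not_cong_zero (by omega) (by omega) (cong_zero_of_cls hk h0)).elim
  rcases class_cases h0 with ⟨i, hi, e⟩ | r | ⟨d, e⟩
  · have hs := sqNorm_short hi
    refine ⟨i, hi, ?_⟩
    exact (congr_short (cong_of_cls (cong_k0_fixed (k0_comb _)) hk e.symm) (by omega) (by omega)
      (by omega) (by omega)).2 (by omega)
  · obtain ⟨c, hc⟩ := reach_omega r
    have hk' : Cong (k0 • ((c : Co0) • pt8 none)) ((c : Co0) • pt8 none) := by
      rw [← mul_smul, ← mem_cen_iff.1 c.2, mul_smul]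
      exact cong_k0_pt8.smul _
    rw [s1, act_cls c cong_k0_pt8] at hc
    have hs : sqNorm (((c : Co0) • pt8 none : leechLattice) : GolayPt → ℤ) = 64 :=
      (sqNorm_smul _ _).trans (sqNorm_vec8 none)
    have := (congr_short (cong_of_cls hk hk' hc) (by omega) (by omega) (by omega) (by omega)).1
    omega
  · have hs := sqNorm_comb_root (r := 2) root_checks.2.2.2.1 d
    rw [act_cls d (cong_k0_fixed (k0_comb _))] at e
    have := (congr_short (cong_of_cls hk (cong_k0_fixed (fixed_smul d (k0_comb _))) e) (by omega)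
      (by omega) (by omega) (by omega)).1
    omega

theorem card_omega : Nat.card omega = 1701 := by
  classical
  have e : omega = ↑(((List.range 4096).filter fun n => (mask Data.tree1).testBit n).map ofBits).toFinset := by
    ext s
    simp only [omega, Set.mem_ofPred_eq, List.coe_toFinset, List.mem_map, List.mem_filter,
      List.mem_range]
    constructor
    · intro h; exact ⟨code s, ⟨code_lt s, h⟩, ofBits_code s⟩
    · rintro ⟨n, ⟨hn, hb⟩, rfl⟩
      rwa [show code (ofBits n) = n from ofBits_inj (code_lt _) hn (ofBits_code _)]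
  rw [e, Nat.card_coe_set_eq, Set.ncard_coe_finset, List.toFinset_card_of_nodup, List.length_map,
    count_tree1]
  refine (List.nodup_range.filter _).map_on ?_
  intro a ha b hb h
  exact ofBits_inj (List.mem_range.1 (List.mem_filter.1 ha).1) (List.mem_range.1 (List.mem_filter.1 hb).1) h

end Cfsg.Agent.Lib.MonsterType.Fischer
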