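import Cfsg.Agent.Lib.MonsterType.Fischer.Kernel
import Cfsg.Agent.Lib.Classical.LowRank.MinusSix
import Cfsg.Agent.Lib.Classical.Standard
import Cfsg.Agent.Lib.Classical.UnitaryCentre
import Cfsg.Agent.Lib.Orth.Omega
import Cfsg.Agent.Lib.UThreeThree.Table

/-!
The action modulo three maps the centraliser onto a subgroup of index two of the isometry group of the
minus form in six dimensions over three elements.
-/

set_option autoImplicit false

namespace Cfsg.Agent.Lib.MonsterType.Fischer

open Cfsg
open Cfsg.Agent.Lib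
open Cfsg.Agent.Lib.Leech
open Matrix
open scoped commutatorElement

/-- The minus form. -/
def qf : (I6 → ZMod 3) → ZMod 3 := quadFormMinus 2 (ZMod 3) 0 1

theorem aniso_three : ∀ z₁ z₂ : ZMod 3, z₁ ^ 2 + 0 * z₁ * z₂ + 1 * z₂ ^ 2 = 0 → z₁ = 0 ∧ z₂ = 0 := by
  decide +kernel

theorem four_eq_one : (4 : ZMod 3) = 1 := by decide +kernel

theorem qf_eq (x : I6 → ZMod 3) : qf x = 2 * pol x x := by
  simp only [qf, quadFormMinus, pol, Fin.sum_univ_two]
  have h3 : (3 : ZMod 3) = 0 := by decide +kernel
  linear_combination (-(x (.inl (.inl 0)) * x (.inl (.inr 0)) + x (.inl (.inl 1)) * x (.inl (.inr 1)) +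
    x (.inr 0) ^ 2 + x (.inr 1) ^ 2)) * h3

/-- The action modulo three, as a matrix. -/
noncomputable def rhoMat (c : cen) : Matrix I6 I6 (ZMod 3) :=
  Matrix.of fun a j => pol (Pi.single j 1) (co (((c⁻¹ : cen) : Co0) • wL a))

theorem k0_wL (a : I6) : k0 • wL a = wL a := k0_comb _

theorem k0_eL (a : I6) : k0 • eL a = eL a := k0_comb _

theorem co_smul_eq (c : cen) {v : leechLattice} (hv : k0 • v = v) :
    co ((c : Co0) • v) = rhoMat c *ᵥ co v := by
  funext a
  have e : ip ((c : Co0) • v) (wL a) = ip v (((c⁻¹ : cen) : Co0) • wL a) := by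
    conv_rhs => rw [← ip_smul (c : Co0), InvMemClass.coe_inv, smul_inv_smul]
  rw [co, e, ip_mod_three hv (fixed_smul c⁻¹ (k0_wL a))]
  simp only [Matrix.mulVec, dotProduct, rhoMat, Matrix.of_apply, pol, Fintype.sum_sum_type,
    Fin.sum_univ_two, Pi.single_apply, reduceCtorEq, if_true, if_false, Sum.inl.injEq, Sum.inr.injEq,
    zero_mul, one_mul, add_zero, zero_add, mul_zero, Fin.reduceEq]
  ring

theorem mat_ext {M N : Matrix I6 I6 (ZMod 3)} (h : ∀ a, M *ᵥ co (eL a) = N *ᵥ co (eL a)) : M = N := by
  refine Matrix.ext fun a j => ?_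
  have := congrFun (h j) a
  simpa [co_eL, Matrix.mulVec_single] using this

/-- The action modulo three, as a homomorphism to matrices. -/
noncomputable def rhoHom : cen →* Matrix I6 I6 (ZMod 3) where
  toFun := rhoMat
  map_one' := mat_ext fun a => by
    rw [← co_smul_eq 1 (k0_eL a), OneMemClass.coe_one, one_smul, Matrix.one_mulVec]
  map_mul' c d := mat_ext fun a => by
    rw [← co_smul_eq (c * d) (k0_eL a), Subgroup.coe_mul, mul_smul,
      co_smul_eq c (fixed_smul d (k0_eL a)), co_smul_eq d (k0_eL a), Matrix.mulVec_mulVec]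

/-- A vector with given coordinates. -/
def liftCo (x : I6 → ZMod 3) : leechLattice := comb fun k => ∑ a, ((x a).val : ℤ) * evec a k

theorem co_liftCo (x : I6 → ZMod 3) : co (liftCo x) = x := by
  funext b
  rw [liftCo, co_comb_apply]
  calc ∑ k, ((∑ a, ((x a).val : ℤ) * evec a k : ℤ) : ZMod 3) * (coT b k : ZMod 3)
      = ∑ a, x a * ((∑ k, evec a k * coT b k : ℤ) : ZMod 3) := by
        push_cast
        simp only [ZMod.natCast_val, ZMod.cast_id', id_eq, Finset.sum_mul, Finset.mul_sum, mul_assoc]
        exact Finset.sum_comm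
    _ = x b := by
        simp only [coord_checks.2.1, mul_ite, mul_one, mul_zero]
        rw [Finset.sum_ite_eq']
        simp

theorem rhoUnit_mem (c : cen) : rhoHom.toHomUnits c ∈ isometryGroup (ZMod 3) qf := by
  have h : ∀ x, qf (rhoMat c *ᵥ x) = qf x := by
    intro x
    have hv : k0 • liftCo x = liftCo x := k0_comb _
    rw [qf_eq, qf_eq, ← co_liftCo x, ← co_smul_eq c hv,
      ← ip_mod_three (fixed_smul c hv) (fixed_smul c hv), ← ip_mod_three hv hv, ip_smul]
  intro u v
  exact h u

/-- The action modulo three. -/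
noncomputable def rho : cen →* isometryGroup (ZMod 3) qf :=
  rhoHom.toHomUnits.codRestrict _ rhoUnit_mem

theorem rho_mat (c : cen) :
    ((rho c : GL I6 (ZMod 3)) : Matrix I6 I6 (ZMod 3)) = rhoMat c := rfl

theorem rho_eq_one_iff (c : cen) : rho c = 1 ↔ ∀ k, co ((c : Co0) • bL k) = co (bL k) := by
  constructor
  · intro e k
    have e' : rhoMat c = 1 := by
      rw [← rho_mat, e]
      rfl
    rw [co_smul_eq c (k0_bL k), e', Matrix.one_mulVec]
  · intro h
    refine Subtype.ext (Units.ext ?_)
    show rhoMat c = (1 : Matrix I6 I6 (ZMod 3))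
    refine mat_ext fun a => ?_
    rw [Matrix.one_mulVec, ← co_smul_eq c (k0_eL a)]
    exact co_smul_fixed h (k0_eL a)

/-- The kernel, parametrised. -/
noncomputable def kerElt (p : Fin 3 × Fin 3) : cen :=
  (⟨k0, k0_mem_cen⟩ : cen) ^ p.1.val * gOm ^ p.2.val

theorem rho_k0 : rho ⟨k0, k0_mem_cen⟩ = 1 := (rho_eq_one_iff _).2 fun k => by rw [k0_bL]

theorem rho_gOm : rho gOm = 1 := (rho_eq_one_iff _).2 co_gOm_bL

theorem orderOf_k0 : orderOf (⟨k0, k0_mem_cen⟩ : cen) = 3 := by
  refine (orderOf_injective cen.subtype cen.subtype_injective (⟨k0, k0_mem_cen⟩ : cen)).symm.trans ?_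
  exact orderOf_eq_prime k0_pow_three fun e => mk_k0_ne_one (by rw [show k0 = 1 from e]; rfl)

theorem kerElt_injective : Function.Injective kerElt := by
  rintro ⟨i, a⟩ ⟨j, b⟩ e
  have hfix : ∀ n : ℕ, ∀ v : leechLattice, k0 • v = v → ((((⟨k0, k0_mem_cen⟩ : cen) ^ n : cen)) : Co0) • v = v := by
    intro n
    induction n with
    | zero => intro v _; simp
    | succ n ih => intro v hv; rw [pow_succ, Subgroup.coe_mul, mul_smul, hv]; exact ih v hv
  have h0 := congrArg (fun c : cen => nvec ((c : Co0) • bL 0)) e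
  simp only [kerElt, Subgroup.coe_mul, mul_smul, gOm_pow,
    hfix _ _ (k0_comb _), nvec_comb] at h0
  obtain rfl : a = b := (by decide +kernel : ∀ a b : Fin 3, pw 0 a = pw 0 b → a = b) a b h0
  have e1 := mul_right_cancel (b := gOm ^ a.val) e
  exact Prod.ext (Fin.ext (pow_injOn_Iio_orderOf (x := (⟨k0, k0_mem_cen⟩ : cen))
    (by rw [orderOf_k0]; exact i.isLt) (by rw [orderOf_k0]; exact j.isLt) e1)) rfl

theorem card_ker : Nat.card rho.ker = 9 := by
  rw [← Nat.card_eq_of_bijective (fun p => (⟨kerElt p, by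
    rw [MonoidHom.mem_ker, kerElt, map_mul, map_pow, map_pow, rho_k0, rho_gOm, one_pow, one_pow,
      one_mul]⟩ : rho.ker)) ⟨?_, ?_⟩]
  · simp
  · intro p q e; exact kerElt_injective (congrArg Subtype.val e)
  · rintro ⟨c, hc⟩
    obtain ⟨i, a, rfl⟩ := mem_powers_of_trivial ((rho_eq_one_iff c).1 hc)
    exact ⟨(i, a), rfl⟩

theorem card_O : Nat.card (isometryGroup (ZMod 3) qf) = 26127360 := by
  rw [qf, Classical.natCard_isometryGroup_minus aniso_three 2, Nat.card_zmod]
  norm_num [Finset.prod_range_succ]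

theorem card_range : Nat.card rho.range = 13063680 := by
  have h := rho.ker.card_mul_index
  rw [card_ker, card_cen, Subgroup.index_ker] at h
  omega

theorem index_range : rho.range.index = 2 := by
  have h := rho.range.card_mul_index
  rw [card_range, card_O] at h
  omega

theorem omega_le_range : Omega (ZMod 3) qf ≤ rho.range := by
  rw [Omega, commutator_eq_closure, Subgroup.closure_le]
  rintro _ ⟨a, b, rfl⟩
  have h2 := index_range
  show ⁅a, b⁆ ∈ rho.range
  rw [commutatorElement_def]
  simp only [Subgroup.mul_mem_iff_of_index_two h2, inv_mem_iff]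
  tauto

/-- The form, bundled. -/
noncomputable def qform : QuadraticForm (ZMod 3) (I6 → ZMod 3) :=
  QuadraticMap.linMulLin (LinearMap.proj (.inl (.inl 0))) (LinearMap.proj (.inl (.inr 0))) +
    QuadraticMap.linMulLin (LinearMap.proj (.inl (.inl 1))) (LinearMap.proj (.inl (.inr 1))) +
    QuadraticMap.linMulLin (LinearMap.proj (.inr 0)) (LinearMap.proj (.inr 0)) +
    QuadraticMap.linMulLin (LinearMap.proj (.inr 1)) (LinearMap.proj (.inr 1))

theorem coe_qform : ⇑qform = qf := by
  funext v
  simp [qform, qf, quadFormMinus, Fin.sum_univ_two]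
  ring

theorem polar_qform (x y : I6 → ZMod 3) : QuadraticMap.polarBilin qform x y = pol x y := by
  rw [QuadraticMap.polarBilin_apply_apply, QuadraticMap.polar]
  simp [qform, pol]
  ring

theorem qform_nondegenerate : (QuadraticMap.polarBilin qform).Nondegenerate := by
  have key : ∀ x, (∀ y, pol x y = 0) → x = 0 := by
    intro x h
    have h1 := h (Pi.single (.inl (.inr 0)) 1)
    have h2 := h (Pi.single (.inl (.inr 1)) 1)
    have h3 := h (Pi.single (.inl (.inl 0)) 1)
    have h4 := h (Pi.single (.inl (.inl 1)) 1)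
    have h5 := h (Pi.single (.inr 0) 1)
    have h6 := h (Pi.single (.inr 1) 1)
    simp [pol, Pi.single_apply] at h1 h2 h3 h4 h5 h6
    funext a
    rcases a with (a | a) | a <;> fin_cases a
    · exact h1
    · exact h2
    · exact h3
    · exact h4
    · exact h5.resolve_left (by decide +kernel)
    · exact h6.resolve_left (by decide +kernel)
  refine ⟨fun x h => key x fun y => ?_, fun y h => key y fun x => ?_⟩
  · rw [← polar_qform]; exact h y
  · rw [pol_comm, ← polar_qform]; exact h x

theorem index_Omega : (Omega (ZMod 3) qf).index = 4 := by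
  rw [← coe_qform]
  exact Orth.index_omega (by decide +kernel) qform_nondegenerate (by simp)

theorem card_Omega : Nat.card (Omega (ZMod 3) qf) = 6531840 := by
  have h := (Omega (ZMod 3) qf).card_mul_index
  rw [index_Omega, card_O] at h
  omega

theorem card_PSU : Nat.card (PSU 4 UThreeThree.Nine 3) = 3265920 := by
  have h := Classical.natCard_PSU (F := UThreeThree.Nine) (q := 3)
    (by rw [UThreeThree.card_nine]; norm_num) 4 (by norm_num)
  norm_num [Finset.prod_range_succ, Nat.even_iff] at h
  omega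

end Cfsg.Agent.Lib.MonsterType.Fischer
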